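import Cfsg.Agent.Lib.Syl54.Excl

/-!
# The numerical bound
-/

set_option autoImplicit false
set_option linter.unusedSectionVars false
set_option linter.unusedVariables false
set_option linter.unusedSimpArgs false

namespace Cfsg.Agent.Lib.Syl54

open Cfsg Cfsg.Lie Cfsg.Agent.Lib.Chev Matrix Cfsg.Agent.Lib.ChevFix Cfsg.Agent.Lib.TwTor32

variable {T : Tabs} {X : Extra} {R : RootTab} {D : ChevalleyDatum}

theorem bound_gen (hF : Full T X R D) (E : List ℕ) (hE0 : ∀ e ∈ E, 0 < e)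
    (hW : Nat.card ↥(hF.Wk Set.univ) = E.prod) {r : ℕ} [Fact r.Prime] (hrE : ¬ r ∣ E.prod) (hlr : D.rank < r)
    {ρ : Equiv.Perm (Fin D.nroots)} (hρ : ρ ∈ hF.Wk Set.univ) {u : ZMod r} (hu : u ^ E.prod = 1)
    (hne : E.filter (fun e => orderOf u ∣ e) ≠ []) :
    Nat.totient (orderOf u) * Module.finrank (ZMod r) (Eg r (mat hF ρ) u) ≤ D.rank ∧
      Module.finrank (ZMod r) (Eg r (mat hF ρ) u) ≤ D.rank ∧
      (∃ e ∈ E, orderOf u ∣ e) ∧ 0 < E.prod ∧ mat hF ρ ^ E.prod = 1 := by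
  have hh : 0 < E.prod := List.prod_pos hE0
  have hA : mat hF ρ ^ E.prod = 1 := by
    have := mat_pow_card hF hρ
    rwa [hW] at this
  have h1 := totient_mul_finrank_le (mat hF ρ) hh hrE hA hlr hu
  have hd0 : 0 < orderOf u := orderOf_pos_iff.2 (isOfFinOrder_iff_pow_eq_one.2 ⟨E.prod, hh, hu⟩)
  have htot : 0 < Nat.totient (orderOf u) := Nat.totient_pos.2 hd0
  refine ⟨h1, ?_, ?_, hh, hA⟩
  · exact le_trans (Nat.le_mul_of_pos_left _ htot) h1
  · obtain ⟨e, he⟩ := List.exists_mem_of_ne_nil _ hne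
    have h2 := List.mem_filter.1 he
    exact ⟨e, h2.1, by simpa using h2.2⟩

section Ords

variable {r : ℕ} [Fact r.Prime] {u : ZMod r}

theorem ord_ne_one {d : ℕ} (h : orderOf u = d) (hd : d ≠ 1) : u ≠ 1 := by
  rintro rfl
  rw [orderOf_one] at h
  exact hd h.symm

theorem ord2 (h : orderOf u = 2) : u = -1 := by
  have h1 : u ^ 2 = 1 := h ▸ pow_orderOf_eq_one u
  have h2 : (u - 1) * (u + 1) = 0 := by linear_combination h1
  rcases mul_eq_zero.1 h2 with h3 | h3
  · exact absurd (sub_eq_zero.1 h3) (ord_ne_one h (by norm_num))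
  · exact eq_neg_of_add_eq_zero_left h3

theorem ord3 (h : orderOf u = 3) : u ^ 2 - (((-1 : ℤ)) : ZMod r) * u + 1 = 0 := by
  have h1 : u ^ 3 = 1 := h ▸ pow_orderOf_eq_one u
  have h2 : (u - 1) * (u ^ 2 + u + 1) = 0 := by linear_combination h1
  rcases mul_eq_zero.1 h2 with h3 | h3
  · exact absurd (sub_eq_zero.1 h3) (ord_ne_one h (by norm_num))
  · push_cast
    linear_combination h3

theorem ord4' (h : orderOf u = 4) : u ^ 2 = -1 := by
  have h1 : u ^ 4 = 1 := h ▸ pow_orderOf_eq_one u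
  have h2 : (u ^ 2 - 1) * (u ^ 2 + 1) = 0 := by linear_combination h1
  rcases mul_eq_zero.1 h2 with h3 | h3
  · have h4 := orderOf_dvd_of_pow_eq_one (sub_eq_zero.1 h3)
    rw [h] at h4
    omega
  · exact eq_neg_of_add_eq_zero_left h3

theorem ord4 (h : orderOf u = 4) : u ^ 2 - (((0 : ℤ)) : ZMod r) * u + 1 = 0 := by
  have h1 := ord4' h
  push_cast
  rw [h1]
  ring

theorem ord6 (h : orderOf u = 6) : u ^ 2 - (((1 : ℤ)) : ZMod r) * u + 1 = 0 := by
  have h1 : u ^ 6 = 1 := h ▸ pow_orderOf_eq_one u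
  have h2 : (u ^ 3 - 1) * (u ^ 3 + 1) = 0 := by linear_combination h1
  rcases mul_eq_zero.1 h2 with h3 | h3
  · have h4 := orderOf_dvd_of_pow_eq_one (sub_eq_zero.1 h3)
    rw [h] at h4
    omega
  · have h5 : (u + 1) * (u ^ 2 - u + 1) = 0 := by linear_combination h3
    rcases mul_eq_zero.1 h5 with h6 | h6
    · have h7 : u ^ 2 = 1 := by
        have h8 : u = -1 := eq_neg_of_add_eq_zero_left h6
        rw [h8]
        ring
      have h4 := orderOf_dvd_of_pow_eq_one h7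
      rw [h] at h4
      omega
    · push_cast
      linear_combination h6

theorem ne_inv (hu : u ^ orderOf u = 1) (h1 : 0 < orderOf u) (h2 : ¬ orderOf u ∣ 2) : u ≠ u⁻¹ := by
  have hu0 : u ≠ 0 := by
    intro h0
    obtain ⟨k, hk⟩ : ∃ k, orderOf u = k + 1 := ⟨orderOf u - 1, by omega⟩
    rw [hk, pow_succ, h0, mul_zero] at hu
    exact zero_ne_one hu
  intro h
  have h3 : u ^ 2 = 1 := by
    rw [pow_two]
    nth_rw 1 [h]
    exact inv_mul_cancel₀ hu0
  exact h2 (orderOf_dvd_of_pow_eq_one h3)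

end Ords

end Cfsg.Agent.Lib.Syl54
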