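import Mathlib

/-!
# Eigenspaces of an integer matrix of finite order modulo a prime
-/

set_option autoImplicit false

namespace Cfsg.Agent.Lib.Syl54

open scoped BigOperators
open Matrix

/-- Integer matrices of finite order: coprime powers have the same trace. -/
theorem trace_pow_coprime {l : ℕ} (A : Matrix (Fin l) (Fin l) ℤ) {h : ℕ} (hh : 0 < h) (hA : A ^ h = 1) {k : ℕ}
    (hk : Nat.Coprime k h) : Matrix.trace (A ^ k) = Matrix.trace A := by
  classical
  haveI : NeZero h := ⟨by omega⟩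
  have hu : IsUnit ((k : ℕ) : ZMod h) := (ZMod.isUnit_iff_coprime k h).2 hk
  obtain ⟨p, hpN, hp, hpk⟩ := Nat.forall_exists_prime_gt_and_eq_mod hu
    (Matrix.trace (A ^ k) - Matrix.trace A).natAbs
  haveI : Fact p.Prime := ⟨hp⟩
  have h1 : A ^ p = A ^ k := by
    rw [pow_eq_pow_mod p hA, pow_eq_pow_mod k hA]
    have := (ZMod.natCast_eq_natCast_iff' p k h).1 hpk
    rw [this]
  have h2 : ((Matrix.trace (A ^ p) : ℤ) : ZMod p) = ((Matrix.trace A : ℤ) : ZMod p) := by
    let φ := Int.castRingHom (ZMod p)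
    have e1 : ∀ M : Matrix (Fin l) (Fin l) ℤ, ((Matrix.trace M : ℤ) : ZMod p) = Matrix.trace (φ.mapMatrix M) := by
      intro M
      simp [Matrix.trace, φ]
    rw [e1, e1, map_pow, ZMod.trace_pow_card, ZMod.pow_card]
  rw [h1] at h2
  have h3 : (p : ℤ) ∣ Matrix.trace (A ^ k) - Matrix.trace A := by
    rw [← ZMod.intCast_zmod_eq_zero_iff_dvd]
    push_cast
    rw [h2, sub_self]
  by_contra hne
  have h4 : Matrix.trace (A ^ k) - Matrix.trace A ≠ 0 := sub_ne_zero.2 hne
  have h5 := Int.natAbs_dvd_natAbs.2 h3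
  have h6 := Nat.le_of_dvd (Int.natAbs_pos.2 h4) h5
  simp at h6
  omega

/-- The reduction modulo `r` of the transpose. -/
def redT {l : ℕ} (r : ℕ) (A : Matrix (Fin l) (Fin l) ℤ) : Matrix (Fin l) (Fin l) (ZMod r) :=
  fun i j => ((A j i : ℤ) : ZMod r)

theorem redT_one {l : ℕ} (r : ℕ) : redT r (1 : Matrix (Fin l) (Fin l) ℤ) = 1 := by
  ext i j
  simp only [redT, Matrix.one_apply]
  by_cases h : i = j
  · subst h; simp
  · rw [if_neg h, if_neg (Ne.symm h)]; simp

theorem redT_mul {l : ℕ} (r : ℕ) (A B : Matrix (Fin l) (Fin l) ℤ) : redT r (A * B) = redT r B * redT r A := by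
  ext i j
  simp only [redT, Matrix.mul_apply]
  push_cast
  apply Finset.sum_congr rfl
  intro x _
  ring

theorem redT_pow {l : ℕ} (r : ℕ) (A : Matrix (Fin l) (Fin l) ℤ) (k : ℕ) : redT r (A ^ k) = redT r A ^ k := by
  induction k with
  | zero => simp [redT_one]
  | succ k ih =>
    rw [pow_succ, redT_mul, ih, pow_succ']

theorem trace_redT {l : ℕ} (r : ℕ) (A : Matrix (Fin l) (Fin l) ℤ) :
    Matrix.trace (redT r A) = ((Matrix.trace A : ℤ) : ZMod r) := by
  simp [Matrix.trace, redT]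

/-- The endomorphism. -/
noncomputable def fE {l : ℕ} (r : ℕ) (A : Matrix (Fin l) (Fin l) ℤ) : Module.End (ZMod r) (Fin l → ZMod r) :=
  Matrix.toLin' (redT r A)

theorem fE_pow {l : ℕ} (r : ℕ) (A : Matrix (Fin l) (Fin l) ℤ) (k : ℕ) : fE r A ^ k = fE r (A ^ k) := by
  unfold fE
  rw [redT_pow, Matrix.toLin'_pow]

/-- The eigenspace. -/
noncomputable def Eg {l : ℕ} (r : ℕ) (A : Matrix (Fin l) (Fin l) ℤ) (u : ZMod r) : Submodule (ZMod r) (Fin l → ZMod r) :=
  Module.End.eigenspace (fE r A) u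

theorem mem_Eg {l : ℕ} {r : ℕ} {A : Matrix (Fin l) (Fin l) ℤ} {u : ZMod r} {x : Fin l → ZMod r} :
    x ∈ Eg r A u ↔ redT r A *ᵥ x = u • x := by
  unfold Eg fE
  rw [Module.End.mem_eigenspace_iff, Matrix.toLin'_apply]

section Field

variable {l : ℕ} {r : ℕ} [Fact r.Prime] (A : Matrix (Fin l) (Fin l) ℤ)

/-- The eigenprojection. -/
noncomputable def piE (h : ℕ) (u : ZMod r) : Module.End (ZMod r) (Fin l → ZMod r) :=
  ((h : ZMod r)⁻¹) • ∑ i ∈ Finset.range h, (u⁻¹ ^ i) • (fE r A ^ i)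

theorem fE_pow_h {h : ℕ} (hA : A ^ h = 1) : fE r A ^ h = 1 := by
  rw [fE_pow, hA]
  unfold fE
  rw [redT_one]
  exact Matrix.toLin'_one

theorem mem_Eg_pow {u : ZMod r} {x : Fin l → ZMod r} (hx : x ∈ Eg r A u) (i : ℕ) :
    (fE r A ^ i) x = u ^ i • x := by
  induction i with
  | zero => simp
  | succ i ih =>
    rw [pow_succ', Module.End.mul_apply, ih, map_smul]
    have h1 : fE r A x = u • x := Module.End.mem_eigenspace_iff.1 hx
    rw [h1, smul_smul, pow_succ]

theorem piE_isProj {h : ℕ} (hh : 0 < h) (hr : ¬ r ∣ h) (hA : A ^ h = 1) {u : ZMod r} (hu : u ^ h = 1) :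
    LinearMap.IsProj (Eg r A u) (piE A h u) := by
  classical
  have hu0 : u ≠ 0 := by
    intro h0
    rw [h0, zero_pow (by omega)] at hu
    exact zero_ne_one hu
  have hh0 : (h : ZMod r) ≠ 0 := by
    rw [Ne, ZMod.natCast_eq_zero_iff]
    exact hr
  have hf : fE r A ^ h = 1 := fE_pow_h A hA
  have hinvpow : (u⁻¹) ^ h = 1 := by rw [inv_pow, hu, inv_one]
  refine ⟨?_, ?_⟩
  · intro x
    unfold Eg
    rw [Module.End.mem_eigenspace_iff]
    -- shift the sum
    have key : fE r A * (∑ i ∈ Finset.range h, (u⁻¹ ^ i) • (fE r A ^ i)) =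
        u • ∑ i ∈ Finset.range h, (u⁻¹ ^ i) • (fE r A ^ i) := by
      have e1 : fE r A * (∑ i ∈ Finset.range h, (u⁻¹ ^ i) • (fE r A ^ i)) =
          u • ∑ i ∈ Finset.range h, (u⁻¹ ^ (i + 1)) • (fE r A ^ (i + 1)) := by
        rw [Finset.mul_sum, Finset.smul_sum]
        apply Finset.sum_congr rfl
        intro i _
        rw [mul_smul_comm, smul_smul, pow_succ' (fE r A)]
        congr 1
        rw [pow_succ', ← mul_assoc, mul_inv_cancel₀ hu0, one_mul]
      rw [e1]
      congr 1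
      have e2 := Finset.sum_range_succ (fun i => (u⁻¹ ^ i) • (fE r A ^ i)) h
      have e3 := Finset.sum_range_succ' (fun i => (u⁻¹ ^ i) • (fE r A ^ i)) h
      simp only [hinvpow, hf, one_smul, pow_zero] at e2 e3
      rw [e2] at e3
      exact (add_right_cancel e3).symm
    have h2 : fE r A (piE A h u x) = ((h : ZMod r)⁻¹) • ((fE r A * (∑ i ∈ Finset.range h, (u⁻¹ ^ i) • (fE r A ^ i))) x) := by
      unfold piE
      simp only [LinearMap.smul_apply, map_smul, Module.End.mul_apply]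
    rw [h2, key]
    unfold piE
    simp only [LinearMap.smul_apply]
    rw [smul_comm]
  · intro x hx
    unfold piE
    simp only [LinearMap.smul_apply, LinearMap.sum_apply]
    have h3 : ∀ i ∈ Finset.range h, (u⁻¹ ^ i) • (fE r A ^ i) x = x := by
      intro i _
      rw [mem_Eg_pow A hx, smul_smul, ← mul_pow, inv_mul_cancel₀ hu0, one_pow, one_smul]
    rw [Finset.sum_congr rfl h3, Finset.sum_const, Finset.card_range, ← Nat.cast_smul_eq_nsmul (ZMod r), smul_smul,
      inv_mul_cancel₀ hh0, one_smul]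

theorem finrank_Eg_cast {h : ℕ} (hh : 0 < h) (hr : ¬ r ∣ h) (hA : A ^ h = 1) {u : ZMod r} (hu : u ^ h = 1) :
    ((Module.finrank (ZMod r) (Eg r A u) : ℕ) : ZMod r) =
      ((h : ZMod r)⁻¹) * ∑ i ∈ Finset.range h, (u⁻¹ ^ i) * ((Matrix.trace (A ^ i) : ℤ) : ZMod r) := by
  have h1 := (piE_isProj A hh hr hA hu).trace
  rw [← h1]
  unfold piE
  rw [map_smul, map_sum, smul_eq_mul]
  congr 1
  apply Finset.sum_congr rfl
  intro i _
  rw [map_smul, smul_eq_mul, fE_pow]
  congr 1
  unfold fE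
  rw [Matrix.trace_toLin'_eq, trace_redT]

theorem sum_reindex {M : Type*} [AddCommMonoid M] (G : ℕ → M) {h : ℕ} (hh : 0 < h) (hG : ∀ n, G n = G (n % h)) {k : ℕ}
    (hk : Nat.Coprime k h) : ∑ i ∈ Finset.range h, G (k * i) = ∑ i ∈ Finset.range h, G i := by
  classical
  have h1 : ∀ i ∈ Finset.range h, G (k * i) = G ((k * i) % h) := fun i _ => hG _
  rw [Finset.sum_congr rfl h1]
  have hinj : Set.InjOn (fun i => (k * i) % h) (Finset.range h : Set ℕ) := by
    intro a ha b hb hab
    have ha' : a < h := Finset.mem_range.1 ha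
    have hb' : b < h := Finset.mem_range.1 hb
    have h2 : k * a ≡ k * b [MOD h] := hab
    have h3 : a ≡ b [MOD h] := Nat.ModEq.cancel_left_of_coprime (by
      rw [Nat.gcd_comm]; exact hk) h2
    exact Nat.ModEq.eq_of_lt_of_lt h3 ha' hb'
  have him : (Finset.range h).image (fun i => (k * i) % h) = Finset.range h := by
    apply Finset.eq_of_subset_of_card_le
    · intro x hx
      obtain ⟨i, -, rfl⟩ := Finset.mem_image.1 hx
      exact Finset.mem_range.2 (Nat.mod_lt _ hh)
    · rw [Finset.card_image_of_injOn hinj]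
  rw [← Finset.sum_image (f := G) hinj, him]

/-- Coprime powers of an eigenvalue have eigenspaces of the same dimension. -/
theorem finrank_Eg_pow {h : ℕ} (hh : 0 < h) (hr : ¬ r ∣ h) (hA : A ^ h = 1) (hlr : l < r) {u : ZMod r} (hu : u ^ h = 1)
    {k : ℕ} (hk : Nat.Coprime k h) :
    Module.finrank (ZMod r) (Eg r A (u ^ k)) = Module.finrank (ZMod r) (Eg r A u) := by
  have huk : (u ^ k) ^ h = 1 := by rw [← pow_mul, mul_comm, pow_mul, hu, one_pow]
  have hinvpow : (u⁻¹) ^ h = 1 := by rw [inv_pow, hu, inv_one]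
  have hc : ((Module.finrank (ZMod r) (Eg r A (u ^ k)) : ℕ) : ZMod r) = ((Module.finrank (ZMod r) (Eg r A u) : ℕ) : ZMod r) := by
    rw [finrank_Eg_cast A hh hr hA huk, finrank_Eg_cast A hh hr hA hu]
    congr 1
    set G : ℕ → ZMod r := fun i => (u⁻¹ ^ i) * ((Matrix.trace (A ^ i) : ℤ) : ZMod r) with hGdef
    have hG : ∀ n, G n = G (n % h) := by
      intro n
      simp only [hGdef]
      rw [← pow_eq_pow_mod n hinvpow, ← pow_eq_pow_mod n hA]
    rw [← sum_reindex G hh hG hk]
    apply Finset.sum_congr rfl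
    intro i _
    simp only [hGdef]
    have h1 : (A ^ i) ^ h = 1 := by rw [← pow_mul, mul_comm, pow_mul, hA, one_pow]
    have h2 := trace_pow_coprime (A ^ i) hh h1 hk
    rw [← pow_mul, mul_comm i k] at h2
    rw [h2, ← inv_pow, ← pow_mul]
  have hle1 : Module.finrank (ZMod r) (Eg r A (u ^ k)) ≤ l := by
    have := Submodule.finrank_le (Eg r A (u ^ k))
    simpa using this
  have hle2 : Module.finrank (ZMod r) (Eg r A u) ≤ l := by
    have := Submodule.finrank_le (Eg r A u)
    simpa using this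
  have h3 := (ZMod.natCast_eq_natCast_iff' _ _ r).1 hc
  rw [Nat.mod_eq_of_lt (by omega), Nat.mod_eq_of_lt (by omega)] at h3
  exact h3

theorem sum_finrank_iSup {K V ι : Type*} [Field K] [AddCommGroup V] [Module K V] [FiniteDimensional K V] [DecidableEq ι]
    (E : ι → Submodule K V) (hE : iSupIndep E) (S : Finset ι) :
    ∑ i ∈ S, Module.finrank K (E i) = Module.finrank K (⨆ i ∈ S, E i : Submodule K V) := by
  induction S using Finset.induction_on with
  | empty =>
    have h : (⨆ i ∈ (∅ : Finset ι), E i) = ⊥ := by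
      simp only [Finset.notMem_empty, iSup_false, iSup_bot]
    rw [h, finrank_bot]
    simp
  | insert a S ha ih =>
    rw [Finset.sum_insert ha, Finset.iSup_insert, ih]
    have h1 : Disjoint (E a) (⨆ i ∈ S, E i) := hE.disjoint_biSup (y := (S : Set ι)) (by simpa using ha)
    have h2 := Submodule.finrank_sup_add_finrank_inf_eq (E a) (⨆ i ∈ S, E i)
    rw [h1.eq_bot, finrank_bot, add_zero] at h2
    exact h2.symm

theorem sum_finrank_Eg_le (S : Finset (ZMod r)) : ∑ μ ∈ S, Module.finrank (ZMod r) (Eg r A μ) ≤ l := by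
  classical
  have h1 := sum_finrank_iSup (fun μ => Eg r A μ) (Module.End.eigenspaces_iSupIndep (fE r A)) S
  rw [h1]
  have := Submodule.finrank_le (⨆ μ ∈ S, Eg r A μ)
  simpa using this

theorem pow_eq_pow_iff_ZMod {u : ZMod r} (hu : u ≠ 0) {a b : ℕ} : u ^ a = u ^ b ↔ a ≡ b [MOD orderOf u] := by
  have h1 : orderOf (Units.mk0 u hu) = orderOf u := (orderOf_units (y := Units.mk0 u hu)).symm
  rw [← h1, ← pow_eq_pow_iff_modEq]
  constructor
  · intro h
    apply Units.ext
    simpa using h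
  · intro h
    have := congrArg Units.val h
    simpa using this

/-- An integer prime to `d` is congruent modulo `d` to an integer prime to the multiple `h`. -/
theorem exists_coprime_lift {d h b : ℕ} (hh : 0 < h) (hdh : d ∣ h) (hb : Nat.Coprime b d) :
    ∃ k, Nat.Coprime k h ∧ k ≡ b [MOD d] := by
  haveI : NeZero h := ⟨by omega⟩
  have hbu : IsUnit ((b : ℕ) : ZMod d) := (ZMod.isUnit_iff_coprime b d).2 hb
  obtain ⟨a, ha⟩ := ZMod.unitsMap_surjective hdh hbu.unit
  refine ⟨((a : ZMod h)).val, ZMod.val_coe_unit_coprime a, ?_⟩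
  apply (ZMod.natCast_eq_natCast_iff _ _ _).1
  have h2 := congrArg (fun x : (ZMod d)ˣ => (x : ZMod d)) ha
  have h3 : ((((a : ZMod h)).val : ℕ) : ZMod d) = (b : ZMod d) := by
    have h4 : ((a : ZMod h)).cast = (b : ZMod d) := h2
    rw [← h4, ZMod.cast_eq_val]
  exact h3

/-- The bound of the multiplicity of an eigenvalue by the degree of its cyclotomic polynomial. -/
theorem totient_mul_finrank_le {h : ℕ} (hh : 0 < h) (hr : ¬ r ∣ h) (hA : A ^ h = 1) (hlr : l < r) {u : ZMod r}
    (hu : u ^ h = 1) : Nat.totient (orderOf u) * Module.finrank (ZMod r) (Eg r A u) ≤ l := by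
  classical
  have hu0 : u ≠ 0 := by
    intro h0
    rw [h0, zero_pow (by omega)] at hu
    exact zero_ne_one hu
  set d := orderOf u with hd
  have hdh : d ∣ h := orderOf_dvd_of_pow_eq_one hu
  have hd0 : 0 < d := Nat.pos_of_dvd_of_pos hdh hh
  set T := (Finset.range d).filter d.Coprime with hT
  have hcard : T.card = Nat.totient d := (Nat.totient_eq_card_coprime d).symm
  have hpow : ∀ b ∈ T, Module.finrank (ZMod r) (Eg r A (u ^ b)) = Module.finrank (ZMod r) (Eg r A u) := by
    intro b hb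
    have hb2 : Nat.Coprime d b := (Finset.mem_filter.1 hb).2
    obtain ⟨k, hkc, hkb⟩ := exists_coprime_lift hh hdh hb2.symm
    have hkb' : u ^ k = u ^ b := (pow_eq_pow_iff_ZMod hu0).2 hkb
    rw [← hkb']
    exact finrank_Eg_pow A hh hr hA hlr hu hkc
  have hinj : Set.InjOn (fun b => u ^ b) (T : Set ℕ) := by
    intro a ha b hb hab
    have h1 : a ≡ b [MOD d] := (pow_eq_pow_iff_ZMod hu0).1 hab
    have ha' : a < d := Finset.mem_range.1 (Finset.mem_filter.1 ha).1
    have hb' : b < d := Finset.mem_range.1 (Finset.mem_filter.1 hb).1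
    exact Nat.ModEq.eq_of_lt_of_lt h1 ha' hb'
  have h1 := sum_finrank_Eg_le A (T.image (fun b => u ^ b))
  have h2 : ∑ μ ∈ T.image (fun b => u ^ b), Module.finrank (ZMod r) (Eg r A μ) =
      ∑ b ∈ T, Module.finrank (ZMod r) (Eg r A (u ^ b)) := Finset.sum_image hinj
  rw [h2, Finset.sum_congr rfl hpow, Finset.sum_const, hcard, smul_eq_mul] at h1
  exact h1

end Field

end Cfsg.Agent.Lib.Syl54
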