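import Mathlib

/-!
# Homocyclic finite abelian groups from exponent, order and rank
-/

set_option autoImplicit false

namespace Cfsg.Agent.Lib.Syl54

open scoped BigOperators

/-- A finite abelian `r`-group of exponent dividing `r^v`, order `r^(va)` and `r`-rank at most `a` is homocyclic. -/
theorem homocyclic_of {A : Type*} [CommGroup A] [Finite A] (r : ℕ) [Fact r.Prime] (v a : ℕ) (hv : 1 ≤ v)
    (hexp : ∀ x : A, x ^ (r ^ v) = 1) (hcard : Nat.card A = r ^ (v * a))
    (hrank : Nat.card {x : A // x ^ r = 1} ≤ r ^ a) :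
    Nonempty (A ≃* (Fin a → Multiplicative (ZMod (r ^ v)))) := by
  classical
  have hr : r.Prime := Fact.out
  obtain ⟨ι, _, n, hn, ⟨e⟩⟩ := CommGroup.equiv_prod_multiplicative_zmod_of_finite A
  -- the orders
  have hdvd : ∀ i, n i ∣ r ^ v := by
    intro i
    have h1 := hexp (e.symm (Pi.mulSingle i (Multiplicative.ofAdd (1 : ZMod (n i)))))
    rw [← map_pow, ← Pi.mulSingle_pow] at h1
    have h2 : Pi.mulSingle i (Multiplicative.ofAdd (1 : ZMod (n i)) ^ r ^ v) = (1 : (i : ι) → Multiplicative (ZMod (n i))) :=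
      e.symm.injective (by rw [h1, map_one])
    have h3 := congrFun h2 i
    rw [Pi.mulSingle_eq_same, Pi.one_apply, ← ofAdd_nsmul, nsmul_eq_mul, mul_one] at h3
    have h4 : ((r ^ v : ℕ) : ZMod (n i)) = 0 := Multiplicative.ofAdd.injective h3
    exact (ZMod.natCast_eq_zero_iff _ _).1 h4
  have hk : ∀ i, ∃ k, k ≤ v ∧ n i = r ^ k := fun i => (Nat.dvd_prime_pow hr).1 (hdvd i)
  choose k hkv hnk using hk
  have hk1 : ∀ i, 1 ≤ k i := by
    intro i
    by_contra h
    have h0 : k i = 0 := by omega
    have := hn i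
    rw [hnk, h0] at this
    simp at this
  -- the order of `A`
  have hc : Nat.card A = r ^ (∑ i, k i) := by
    rw [Nat.card_congr e.toEquiv, Nat.card_pi]
    have : ∀ i, Nat.card (Multiplicative (ZMod (n i))) = r ^ k i := by
      intro i
      rw [Nat.card_congr Multiplicative.toAdd, Nat.card_zmod, hnk]
    simp only [this]
    rw [Finset.prod_pow_eq_pow_sum]
  have hsum : ∑ i, k i = v * a := by
    rw [hc] at hcard
    exact Nat.pow_right_injective hr.two_le hcard
  -- the rank
  have hrk : Fintype.card ι ≤ a := by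
    let g : (ι → Fin r) → {x : A // x ^ r = 1} := fun b =>
      ⟨e.symm (fun i => Multiplicative.ofAdd ((r ^ (k i - 1) * (b i : ℕ) : ℕ) : ZMod (n i))), by
        rw [← map_pow]
        apply e.symm.map_eq_one_iff.2
        funext i
        rw [Pi.pow_apply, Pi.one_apply, ← ofAdd_nsmul, nsmul_eq_mul]
        have h5 : ((r : ZMod (n i)) * ((r ^ (k i - 1) * (b i : ℕ) : ℕ) : ZMod (n i))) = (((r ^ k i * (b i : ℕ)) : ℕ) : ZMod (n i)) := by
          have h6 : r ^ k i = r * r ^ (k i - 1) := by
            rw [← pow_succ']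
            congr 1
            have := hk1 i
            omega
          rw [h6]
          push_cast
          ring
        rw [h5]
        have h7 : ((r ^ k i * (b i : ℕ) : ℕ) : ZMod (n i)) = 0 := by
          rw [ZMod.natCast_eq_zero_iff, hnk]
          exact Dvd.intro _ rfl
        rw [h7]
        rfl⟩
    have hg : Function.Injective g := by
      intro b b' h
      funext i
      have h1 := congrArg Subtype.val h
      have h2 := e.symm.injective h1
      have h3 := congrFun h2 i
      have h4 : ((r ^ (k i - 1) * (b i : ℕ) : ℕ) : ZMod (n i)) = ((r ^ (k i - 1) * (b' i : ℕ) : ℕ) : ZMod (n i)) :=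
        Multiplicative.ofAdd.injective h3
      rw [ZMod.natCast_eq_natCast_iff, hnk] at h4
      have h6 : r ^ k i = r ^ (k i - 1) * r := by
        rw [← pow_succ]
        congr 1
        have := hk1 i
        omega
      rw [h6] at h4
      have h7 : (b i : ℕ) ≡ (b' i : ℕ) [MOD r] :=
        Nat.ModEq.mul_left_cancel' (pow_ne_zero _ hr.ne_zero) h4
      have h8 := Nat.ModEq.eq_of_lt_of_lt h7 (b i).2 (b' i).2
      exact Fin.ext h8
    have h1 := Nat.card_le_card_of_injective g hg
    have h2 : Nat.card (ι → Fin r) = r ^ Fintype.card ι := by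
      rw [Nat.card_eq_fintype_card]
      simp
    rw [h2] at h1
    exact (Nat.pow_le_pow_iff_right hr.one_lt).1 (h1.trans hrank)
  have hle : ∑ i, k i ≤ v * Fintype.card ι := by
    calc ∑ i, k i ≤ ∑ _i : ι, v := Finset.sum_le_sum (fun i _ => hkv i)
      _ = v * Fintype.card ι := by simp [mul_comm]
  have hca : Fintype.card ι = a := by
    apply le_antisymm hrk
    rw [hsum] at hle
    exact Nat.le_of_mul_le_mul_left hle (by omega)
  have hkall : ∀ i, k i = v := by
    intro i
    by_contra hne
    have hlt : k i < v := lt_of_le_of_ne (hkv i) hne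
    have : ∑ j, k j < ∑ _j : ι, v :=
      Finset.sum_lt_sum (fun j _ => hkv j) ⟨i, Finset.mem_univ _, hlt⟩
    have h2 : ∑ _j : ι, v = v * a := by
      simp [hca, mul_comm]
    omega
  -- the isomorphism
  have hn' : ∀ i, n i = r ^ v := fun i => by rw [hnk, hkall]
  let e2 : ((i : ι) → Multiplicative (ZMod (n i))) ≃* (ι → Multiplicative (ZMod (r ^ v))) :=
    MulEquiv.piCongrRight (fun i => (ZMod.ringEquivCongr (hn' i)).toAddEquiv.toMultiplicative)
  let e3 : (ι → Multiplicative (ZMod (r ^ v))) ≃* (Fin a → Multiplicative (ZMod (r ^ v))) :=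
    MulEquiv.arrowCongr (Fintype.equivFinOfCardEq hca) (MulEquiv.refl _)
  exact ⟨e.trans (e2.trans e3)⟩

end Cfsg.Agent.Lib.Syl54
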