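import Cfsg.Agent.Lib.TwTor32F
import Cfsg.Agent.Lib.Syl54.Eig
import Cfsg.Agent.Lib.Syl54.Homo

/-!
# The Sylow subgroups of a Chevalley group for primes prime to the Weyl group
-/

set_option autoImplicit false
set_option linter.unusedSectionVars false
set_option linter.unusedVariables false
set_option linter.unusedSimpArgs false

namespace Cfsg.Agent.Lib.Syl54

open Cfsg Cfsg.Lie Cfsg.Agent.Lib.Chev Matrix Cfsg.Agent.Lib.ChevFix Cfsg.Agent.Lib.TwTor32

variable {F : Type*} [Field F] {T : Tabs} {X : Extra} {R : RootTab} {D : ChevalleyDatum}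

/-- Elements of the torus conjugate under `z` are conjugate under one element of `N`, independent of the elements. -/
theorem exists_N_uniform [Fintype F] (hF : Full T X R D) {z : GL D.Idx F} (hz : z ∈ D.group F) :
    ∃ n : ↥(D.monomialSubgroup F), ∀ t₁ ∈ D.diagonalSubgroup F, ∀ t₂ ∈ D.diagonalSubgroup F,
      z * t₁ * z⁻¹ = t₂ → n.1 * t₁ * n.1⁻¹ = t₂ := by
  classical
  have hnormU : ∀ h ∈ D.diagonalSubgroup F, ∀ u ∈ D.posUnipotent F, h * u * h⁻¹ ∈ D.posUnipotent F := by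
    intro h hh u hu
    exact (Subgroup.mem_normalizer_iff.1 (hF.diagonal_le_normalizer_U hh) u).1 hu
  have hnormN : ∀ n ∈ D.monomialSubgroup F, ∀ h ∈ D.diagonalSubgroup F, n * h * n⁻¹ ∈ D.diagonalSubgroup F := by
    intro n hn h hh
    have := hF.diagonal_normal (F := F)
    have h3 := this.conj_mem ⟨h, hF.c.diagonal_le_monomial hh⟩ (Subgroup.mem_subgroupOf.2 hh) ⟨n, hn⟩
    exact Subgroup.mem_subgroupOf.1 h3
  obtain ⟨n, hn, hgn⟩ := Cfsg.Agent.Lib.BNPair.exists_mem_dc (P := hF.bnPair F)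
    (⟨z, hz⟩ : ↥(D.group F))
  obtain ⟨b, hb, b', hb', e⟩ := Cfsg.Agent.Lib.BNPair.mem_dc.1 hgn
  have hb1 : b.1 ∈ D.borelSubgroup F := Subgroup.mem_subgroupOf.1 hb
  have hb2 : b'.1 ∈ D.borelSubgroup F := Subgroup.mem_subgroupOf.1 hb'
  have hn1 : n.1 ∈ D.monomialSubgroup F := Subgroup.mem_subgroupOf.1 hn
  have he : z = b.1 * n.1 * b'.1 := congrArg Subtype.val e
  obtain ⟨u₁, hu₁, h₁, hh₁, eb⟩ := (hF.mem_borel_iff).1 hb1
  obtain ⟨v, hv, h₂, hh₂, eb'⟩ := (hF.mem_borel_iff).1 hb2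
  set u₂ := h₂⁻¹ * v * h₂ with hu₂
  have hu₂U : u₂ ∈ D.posUnipotent F := by
    have := hnormU _ (inv_mem hh₂) v hv
    rwa [inv_inv] at this
  set n' := h₁ * n.1 * h₂ with hn'
  have hn'N : n' ∈ D.monomialSubgroup F :=
    mul_mem (mul_mem (hF.c.diagonal_le_monomial hh₁) hn1) (hF.c.diagonal_le_monomial hh₂)
  have hz' : z = u₁ * n' * u₂ := by
    rw [he, eb, eb', hn', hu₂]
    group
  refine ⟨⟨n', hn'N⟩, ?_⟩
  intro t₁ ht₁ t₂ ht₂ hc
  set a := u₁⁻¹ * (t₂ * u₁ * t₂⁻¹) with ha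
  have haU : a ∈ D.posUnipotent F := mul_mem (inv_mem hu₁) (hnormU _ ht₂ _ hu₁)
  set a' := (t₁ * u₂ * t₁⁻¹) * u₂⁻¹ with ha'
  have ha'U : a' ∈ D.posUnipotent F := mul_mem (hnormU _ ht₁ _ hu₂U) (inv_mem hu₂U)
  set e₀ := n'⁻¹ * t₂ * n' * t₁⁻¹ with he₀
  have he₀H : e₀ ∈ D.diagonalSubgroup F := by
    have h3 := hnormN _ (inv_mem hn'N) _ ht₂
    rw [inv_inv] at h3
    exact mul_mem h3 (inv_mem ht₁)
  have hcz : t₂ * z * t₁⁻¹ = z := by
    rw [← hc]
    group
  have hrel : n'⁻¹ * a * n' * (e₀ * a') = 1 := by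
    have h3 : a * n' * (e₀ * a') = n' := by
      have h4 : a * n' * (e₀ * a') = u₁⁻¹ * (t₂ * (u₁ * n' * u₂) * t₁⁻¹) * u₂⁻¹ := by
        rw [ha, ha', he₀]
        group
      rw [h4, ← hz', hcz, hz']
      group
    calc n'⁻¹ * a * n' * (e₀ * a') = n'⁻¹ * (a * n' * (e₀ * a')) := by group
      _ = 1 := by rw [h3, inv_mul_cancel]
  -- orders
  set q := Fintype.card F with hq
  set m := q ^ R.N with hm
  have hcard : Nat.card ↥(D.posUnipotent F) = m := hF.card_U_fintype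
  have hfinU : Finite ↥(D.posUnipotent F) := by
    apply Nat.finite_of_card_ne_zero
    rw [hcard]
    exact pow_ne_zero _ Fintype.card_ne_zero
  have hapow : a ^ m = 1 := by
    have h3 : (⟨a, haU⟩ : ↥(D.posUnipotent F)) ^ Nat.card ↥(D.posUnipotent F) = 1 := pow_card_eq_one'
    rw [hcard] at h3
    exact congrArg Subtype.val h3
  have hpow2 : (n'⁻¹ * a * n') ^ m = 1 := by
    have h3 : (n'⁻¹ * a * n') ^ m = n'⁻¹ * a ^ m * n' := by
      have := conj_pow (a := n'⁻¹) (b := a) (i := m)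
      rwa [inv_inv] at this
    rw [h3, hapow]
    group
  have hinv : n'⁻¹ * a * n' = (e₀ * a')⁻¹ := eq_inv_of_mul_eq_one_left hrel
  have hpow3 : (e₀ * a') ^ m = 1 := by
    rw [hinv, inv_pow] at hpow2
    exact inv_eq_one.1 hpow2
  have hform : ∀ k : ℕ, ∃ w ∈ D.posUnipotent F, (e₀ * a') ^ k = e₀ ^ k * w := by
    intro k
    induction k with
    | zero => exact ⟨1, one_mem _, by simp⟩
    | succ k ih =>
      obtain ⟨w, hw, e3⟩ := ih
      refine ⟨e₀⁻¹ * w * e₀ * a', mul_mem ?_ ha'U, ?_⟩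
      · have := hnormU _ (inv_mem he₀H) w hw
        rwa [inv_inv] at this
      · rw [pow_succ, e3, pow_succ]
        group
  obtain ⟨w, hw, e3⟩ := hform m
  rw [hpow3] at e3
  have he₀m : e₀ ^ m = 1 := by
    have h3 : e₀ ^ m ∈ D.posUnipotent F ⊓ D.diagonalSubgroup F := by
      refine Subgroup.mem_inf.2 ⟨?_, pow_mem he₀H m⟩
      have : e₀ ^ m = w⁻¹ := eq_inv_of_mul_eq_one_left e3.symm
      rw [this]
      exact inv_mem hw
    rw [hF.U_inf_H, Subgroup.mem_bot] at h3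
    exact h3
  obtain ⟨c₀, hc₀⟩ := (hF.mem_diagonal_iff).1 he₀H
  have he₀1 : e₀ = 1 := by
    have h3 : c₀ ^ m = c₀ := by
      funext i
      apply Units.ext
      rw [Pi.pow_apply, Units.val_pow_eq_pow_val, hm, hq]
      exact FiniteField.pow_card_pow _ _
    rw [hc₀] at he₀m ⊢
    have h4 : tor R D c₀ ^ m = tor R D (c₀ ^ m) := (map_pow (torHom R D) c₀ m).symm
    rw [h4, h3] at he₀m
    exact he₀m
  show n' * t₁ * n'⁻¹ = t₂
  have h3 : n'⁻¹ * t₂ * n' = t₁ := by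
    rw [he₀, mul_inv_eq_one] at he₀1
    exact he₀1
  rw [← h3]
  group

/-- A subgroup of `r`-power order of `G` is conjugate into the torus if `r` does not divide the index. -/
theorem exists_conj_torus_sub [Finite F] (hF : Full T X R D) {r : ℕ} [Fact r.Prime]
    (hidx : ¬ r ∣ ((D.diagonalSubgroup F).subgroupOf (D.group F)).index)
    (Q : Subgroup ↥(D.group F)) (hQ : IsPGroup r Q) :
    ∃ Y ∈ D.group F, ∀ x ∈ Q, Y⁻¹ * x.1 * Y ∈ D.diagonalSubgroup F := by
  classical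
  haveI : Finite (GL D.Idx F) := inferInstance
  haveI : Finite ↥(D.group F) := inferInstance
  set H := (D.diagonalSubgroup F).subgroupOf (D.group F) with hH
  have hc := IsPGroup.card_modEq_card_fixedPoints (p := r) hQ (↥(D.group F) ⧸ H)
  have hne : (MulAction.fixedPoints Q (↥(D.group F) ⧸ H)).Nonempty := by
    by_contra h0
    rw [Set.not_nonempty_iff_eq_empty] at h0
    have h1 : Nat.card (MulAction.fixedPoints Q (↥(D.group F) ⧸ H)) = 0 := by
      rw [h0]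
      simp
    rw [h1] at hc
    apply hidx
    have := (Nat.modEq_zero_iff_dvd).1 hc
    rw [Subgroup.index]
    exact this
  obtain ⟨a, ha⟩ := hne
  obtain ⟨y, rfl⟩ := QuotientGroup.mk_surjective a
  refine ⟨y.1, y.2, ?_⟩
  intro x hx
  have h1 := ha ⟨x, hx⟩
  have h2 : ((x * y : ↥(D.group F)) : ↥(D.group F) ⧸ H) = (y : ↥(D.group F) ⧸ H) := h1
  have h3 := QuotientGroup.eq.1 h2
  have h4 := H.inv_mem h3
  have e : ((x * y)⁻¹ * y)⁻¹ = y⁻¹ * x * y := by group
  rw [e] at h4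
  exact Subgroup.mem_subgroupOf.1 h4

section Twist

variable {K : Type*} [Field K] [Fintype F] [Fintype K]

/-- The twisting data attached to a subgroup of `r`-power order. -/
theorem exists_twist_data (hF : Full T X R D) (f : F →+* K) (σ : K ≃+* K) (q : ℕ) (hfσ : ∀ b, σ (f b) = f b)
    (hσ : ∀ x : K, σ x = x ^ q) {r : ℕ} [Fact r.Prime]
    (hidx : ¬ r ∣ ((D.diagonalSubgroup K).subgroupOf (D.group K)).index)
    (P : Subgroup ↥(D.group F)) (hP : IsPGroup r P) :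
    ∃ Y : GL D.Idx K, ∃ ρ : Equiv.Perm (Fin D.nroots), ρ ∈ hF.Wk Set.univ ∧
      ∀ x ∈ P, ∃ c : Fin D.rank → Kˣ, Y⁻¹ * glM D f x.1 * Y = tor R D c ∧
        ∀ v, Xc c (mat hF ρ *ᵥ v) = Xc c v ^ q := by
  classical
  let ιh : ↥(D.group F) →* ↥(D.group K) :=
    ((glM D f).comp (D.group F).subtype).codRestrict (D.group K) (fun x => map_group_le D f ⟨x.1, x.2, rfl⟩)
  have hQ : IsPGroup r (P.map ιh) := by
    rintro ⟨g, x, hx, rfl⟩
    obtain ⟨k, hk⟩ := hP ⟨x, hx⟩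
    refine ⟨k, ?_⟩
    apply Subtype.ext
    have h1 : x ^ r ^ k = 1 := congrArg Subtype.val hk
    show ιh x ^ r ^ k = 1
    rw [← map_pow, h1, map_one]
  obtain ⟨Y, hY, hYQ⟩ := exists_conj_torus_sub hF hidx (P.map ιh) hQ
  set sg := glM D (σ : K →+* K) with hsg
  have hsgY : sg Y ∈ D.group K := map_group_le D (σ : K →+* K) ⟨Y, hY, rfl⟩
  have hz : Y⁻¹ * sg Y ∈ D.group K := mul_mem (inv_mem hY) hsgY
  obtain ⟨n, hn⟩ := exists_N_uniform hF hz
  refine ⟨Y, hF.rhoN K n, hF.rhoN_mem_Wk n, ?_⟩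
  intro x hx
  have hmem : ιh x ∈ P.map ιh := ⟨x, hx, rfl⟩
  have ht := hYQ (ιh x) hmem
  obtain ⟨c, hc⟩ := (hF.mem_diagonal_iff).1 ht
  have hι : (ιh x).1 = glM D f x.1 := rfl
  change Y⁻¹ * (ιh x).1 * Y = _ at hc
  rw [hι] at hc
  refine ⟨c, hc, ?_⟩
  have hfix : sg (glM D f x.1) = glM D f x.1 := Fix.fixed_of_mem σ f hfσ ⟨x.1, x.2, rfl⟩
  have hsgt : sg (tor R D c) = tor R D (c ^ q) := sg_tor σ q hF hσ c
  have hconj : (Y⁻¹ * sg Y) * tor R D (c ^ q) * (Y⁻¹ * sg Y)⁻¹ = tor R D c := by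
    rw [← hsgt, ← hc, map_mul, map_mul, map_inv, hfix]
    group
  have h2 := hn _ ((hF.mem_diagonal_iff).2 ⟨_, rfl⟩) _ ((hF.mem_diagonal_iff).2 ⟨_, rfl⟩) hconj
  have h3 : Tw hF n q c := (tw_iff q hF n c).2 h2
  intro v
  exact Xc_twist hF (hF.rhoN_mem_Wk n) c q h3 v

theorem comm_of_data (hF : Full T X R D) (f : F →+* K) {Y : GL D.Idx K} {P : Subgroup ↥(D.group F)}
    (h : ∀ x ∈ P, ∃ c : Fin D.rank → Kˣ, Y⁻¹ * glM D f x.1 * Y = tor R D c) {x y : ↥(D.group F)} (hx : x ∈ P)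
    (hy : y ∈ P) : x * y = y * x := by
  obtain ⟨c, hc⟩ := h x hx
  obtain ⟨d, hd⟩ := h y hy
  have e1 : glM D f x.1 = Y * tor R D c * Y⁻¹ := by rw [← hc]; group
  have e2 : glM D f y.1 = Y * tor R D d * Y⁻¹ := by rw [← hd]; group
  have hcomm : tor R D c * tor R D d = (tor R D d * tor R D c : GL D.Idx K) := by
    rw [tor_mul, mul_comm, ← tor_mul]
  apply Subtype.ext
  apply glM_injective D f
  show glM D f (x.1 * y.1) = glM D f (y.1 * x.1)
  rw [map_mul, map_mul, e1, e2]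
  calc Y * tor R D c * Y⁻¹ * (Y * tor R D d * Y⁻¹) = Y * (tor R D c * tor R D d) * Y⁻¹ := by group
    _ = Y * (tor R D d * tor R D c) * Y⁻¹ := by rw [hcomm]
    _ = _ := by group

theorem pow_card_of_data (hF : Full T X R D) (f : F →+* K) {Y : GL D.Idx K} {x : ↥(D.group F)}
    {c : Fin D.rank → Kˣ} (hc : Y⁻¹ * glM D f x.1 * Y = tor R D c) : x ^ (Fintype.card K - 1) = 1 := by
  classical
  have h1 : c ^ (Fintype.card K - 1) = 1 := by
    funext i
    rw [Pi.pow_apply, Pi.one_apply]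
    apply Units.ext
    rw [Units.val_pow_eq_pow_val, Units.val_one]
    exact FiniteField.pow_card_sub_one_eq_one _ (Units.ne_zero _)
  have h2 : (tor R D c : GL D.Idx K) ^ (Fintype.card K - 1) = 1 := by
    have h3 : tor R D c ^ (Fintype.card K - 1) = tor R D (c ^ (Fintype.card K - 1)) :=
      (map_pow (torHom R D) c _).symm
    rw [h3, h1]
    exact map_one (torHom R D)
  rw [← hc] at h2
  have h3 : (Y⁻¹ * glM D f x.1 * Y) ^ (Fintype.card K - 1) = Y⁻¹ * (glM D f x.1) ^ (Fintype.card K - 1) * Y := by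
    have := conj_pow (a := Y⁻¹) (b := glM D f x.1) (i := Fintype.card K - 1)
    rwa [inv_inv] at this
  rw [h3] at h2
  have h4 : (glM D f x.1) ^ (Fintype.card K - 1) = 1 := by
    have e : (glM D f x.1) ^ (Fintype.card K - 1) = Y * (Y⁻¹ * (glM D f x.1) ^ (Fintype.card K - 1) * Y) * Y⁻¹ := by
      group
    rw [e, h2]
    group
  apply Subtype.ext
  apply glM_injective D f
  show glM D f ((x ^ (Fintype.card K - 1)).1) = glM D f 1
  rw [Subgroup.coe_pow, map_pow, h4, map_one]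

/-- The values of a twisted torus element of order dividing `r` give an eigenvector. -/
theorem rank_of_data (hF : Full T X R D) (f : F →+* K) (q : ℕ) {r : ℕ} [Fact r.Prime]
    (hrK : r ∣ Fintype.card K - 1) {Y : GL D.Idx K} {ρ : Equiv.Perm (Fin D.nroots)} (hρ : ρ ∈ hF.Wk Set.univ)
    {P : Subgroup ↥(D.group F)}
    (h : ∀ x ∈ P, ∃ c : Fin D.rank → Kˣ, Y⁻¹ * glM D f x.1 * Y = tor R D c ∧
        ∀ v, Xc c (mat hF ρ *ᵥ v) = Xc c v ^ q) :
    Nat.card {x : ↥P // x ^ r = 1} ≤ r ^ Module.finrank (ZMod r) (Eg r (mat hF ρ) (q : ZMod r)) := by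
  classical
  have hrp : r.Prime := Fact.out
  have hcardK : r ∣ Nat.card Kˣ := by
    rw [Nat.card_eq_fintype_card, Fintype.card_units]
    exact hrK
  obtain ⟨ζ, hζ⟩ := exists_prime_orderOf_dvd_card' r hcardK
  have hprim : IsPrimitiveRoot (ζ : K) r := by
    rw [IsPrimitiveRoot.coe_units_iff, ← hζ]
    exact IsPrimitiveRoot.orderOf ζ
  haveI : NeZero r := ⟨hrp.ne_zero⟩
  have hlog : ∀ b : Kˣ, ∃ i : ℕ, b ^ r = 1 → ζ ^ i = b := by
    intro b
    by_cases hb : b ^ r = 1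
    · have h1 : ((b : K)) ^ r = 1 := by
        rw [← Units.val_pow_eq_pow_val, hb, Units.val_one]
      obtain ⟨i, -, hi⟩ := hprim.eq_pow_of_pow_eq_one h1
      refine ⟨i, fun _ => ?_⟩
      apply Units.ext
      rw [Units.val_pow_eq_pow_val, hi]
    · exact ⟨0, fun h' => absurd h' hb⟩
  choose lg hlg using hlog
  choose! cf hcf1 hcf2 using h
  -- the values are `r`-th roots of unity
  have hval : ∀ x : ↥P, x ^ r = 1 → ∀ j : Fin D.rank, (cartanMap D (cf x.1) j) ^ r = 1 := by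
    intro x hx j
    have h1 : (x.1 : ↥(D.group F)) ^ r = 1 := congrArg Subtype.val hx
    have h2 : (tor R D (cf x.1) : GL D.Idx K) ^ r = 1 := by
      rw [← hcf1 x.1 x.2]
      have h3 : (Y⁻¹ * glM D f x.1.1 * Y) ^ r = Y⁻¹ * (glM D f x.1.1) ^ r * Y := by
        have := conj_pow (a := Y⁻¹) (b := glM D f x.1.1) (i := r)
        rwa [inv_inv] at this
      rw [h3, ← map_pow]
      have h4 : (x.1.1 : GL D.Idx F) ^ r = 1 := congrArg Subtype.val h1
      rw [h4, map_one]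
      group
    have h3 : tor R D (cf x.1 ^ r) = (tor R D (1 : Fin D.rank → Kˣ) : GL D.Idx K) := by
      have h4 : tor R D (cf x.1) ^ r = tor R D (cf x.1 ^ r) := (map_pow (torHom R D) _ _).symm
      rw [← h4, h2]
      exact (map_one (torHom R D)).symm
    have h4 := chi_eq_of_tor hF h3 (hF.pF j)
    rw [chiT_pow, chiT_one''] at h4
    rw [← Xc_single, ← rcV_pF hF j, Xc_rc hF _ (hF.pF j).2]
    exact h4
  -- the map to the eigenspace
  let lv : {x : ↥P // x ^ r = 1} → Fin D.rank → ℕ := fun x j => lg (cartanMap D (cf x.1.1) j)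
  have hlv : ∀ x j, ζ ^ lv x j = cartanMap D (cf x.1.1) j := fun x j => hlg _ (hval x.1 x.2 j)
  have hXc : ∀ x (v : Fin D.rank → ℤ), Xc (cf x.1.1) v = ζ ^ (∑ j, (lv x j : ℤ) * v j) := by
    intro x v
    unfold Xc
    rw [Finset.prod_congr rfl (fun j _ => by
      rw [← hlv x j, ← zpow_natCast, ← _root_.zpow_mul])]
    have gen : ∀ (S : Finset (Fin D.rank)) (g : Fin D.rank → ℤ), ∏ j ∈ S, ζ ^ (g j) = ζ ^ (∑ j ∈ S, g j) := by
      intro S g
      induction S using Finset.induction_on with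
      | empty => simp
      | insert a S ha ih => rw [Finset.prod_insert ha, Finset.sum_insert ha, ih, _root_.zpow_add]
    exact gen _ _
  let av : {x : ↥P // x ^ r = 1} → (Fin D.rank → ZMod r) := fun x j => ((lv x j : ℕ) : ZMod r)
  have hav : ∀ x, av x ∈ Eg r (mat hF ρ) (q : ZMod r) := by
    intro x
    rw [mem_Eg]
    funext i
    rw [Pi.smul_apply, smul_eq_mul]
    have h1 := hcf2 x.1.1 x.1.2 (Pi.single i 1)
    rw [Xc_single, Matrix.mulVec_single_one, ← hlv x i] at h1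
    rw [hXc x] at h1
    rw [← zpow_natCast ζ (lv x i), ← zpow_natCast (ζ ^ ((lv x i : ℕ) : ℤ)) q, ← _root_.zpow_mul] at h1
    have h2 := zpow_eq_zpow_iff_modEq.1 h1
    rw [hζ] at h2
    have h3 := (ZMod.intCast_eq_intCast_iff _ _ _).2 h2
    push_cast at h3
    simp only [Matrix.mulVec, dotProduct, redT, av]
    rw [mul_comm (q : ZMod r)]
    rw [← h3]
    apply Finset.sum_congr rfl
    intro j _
    rw [mul_comm]
    rfl
  have hinj : Function.Injective (fun x : {x : ↥P // x ^ r = 1} =>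
      (⟨av x, hav x⟩ : ↥(Eg r (mat hF ρ) (q : ZMod r)))) := by
    intro x y hxy
    have h1 : av x = av y := congrArg Subtype.val hxy
    have h2 : ∀ j : Fin D.rank, cartanMap D (cf x.1.1) j = cartanMap D (cf y.1.1) j := by
      intro j
      rw [← hlv x j, ← hlv y j]
      have h3 := congrFun h1 j
      have h4 : lv x j ≡ lv y j [MOD r] := (ZMod.natCast_eq_natCast_iff _ _ _).1 h3
      rw [← hζ] at h4
      exact (pow_eq_pow_iff_modEq).2 h4
    have h3 : tor R D (cf x.1.1) = (tor R D (cf y.1.1) : GL D.Idx K) := by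
      apply tor_eq_of_chi hF
      intro s
      rw [← Xc_rc hF _ s.2, ← Xc_rc hF _ s.2]
      unfold Xc
      apply Finset.prod_congr rfl
      intro j _
      rw [h2]
    rw [← hcf1 x.1.1 x.1.2, ← hcf1 y.1.1 y.1.2] at h3
    have h4 : glM D f x.1.1.1 = glM D f y.1.1.1 := by
      have h5 := congrArg (fun g => Y * g * Y⁻¹) h3
      simpa [mul_assoc] using h5
    apply Subtype.ext
    apply Subtype.ext
    apply Subtype.ext
    exact glM_injective D f h4
  haveI : Fintype ↥(Eg r (mat hF ρ) (q : ZMod r)) := Fintype.ofFinite _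
  have h1 := Nat.card_le_card_of_injective _ hinj
  rw [Nat.card_eq_fintype_card (α := ↥(Eg r (mat hF ρ) (q : ZMod r))), Module.card_eq_pow_finrank (K := ZMod r),
    ZMod.card] at h1
  exact h1

end Twist

end Cfsg.Agent.Lib.Syl54
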