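import Cfsg.Agent.Lib.Syl54.Main

/-!
# Bounds of eigenspaces of Weyl group elements, beyond the bound by the degree of the cyclotomic polynomial
-/

set_option autoImplicit false
set_option linter.unusedSectionVars false
set_option linter.unusedVariables false
set_option linter.unusedSimpArgs false

namespace Cfsg.Agent.Lib.Syl54

open Cfsg Cfsg.Lie Cfsg.Agent.Lib.Chev Matrix Cfsg.Agent.Lib.ChevFix Cfsg.Agent.Lib.TwTor32

variable {T : Tabs} {X : Extra} {R : RootTab} {D : ChevalleyDatum}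

theorem tact_dot {l : ℕ} (A : Matrix (Fin l) (Fin l) ℤ) (f v : Fin l → ℤ) : (A.transpose *ᵥ f) ⬝ᵥ v = f ⬝ᵥ (A *ᵥ v) := by
  rw [Matrix.mulVec_transpose, Matrix.dotProduct_mulVec]

/-- Reduction of a vector. -/
def cv {l : ℕ} (r : ℕ) (f : Fin l → ℤ) : Fin l → ZMod r := fun i => (f i : ZMod r)

theorem cast_tact {l : ℕ} (r : ℕ) (A : Matrix (Fin l) (Fin l) ℤ) (f : Fin l → ℤ) :
    redT r A *ᵥ cv r f = cv r (A.transpose *ᵥ f) := by
  funext i
  simp [Matrix.mulVec, dotProduct, redT, cv, Matrix.transpose_apply]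

theorem cv_dot {l : ℕ} (r : ℕ) (f g : Fin l → ℤ) : cv r f ⬝ᵥ cv r g = ((f ⬝ᵥ g : ℤ) : ZMod r) := by
  simp [dotProduct, cv]

/-- Functionals with values in `{-1, 0, 1}` on the roots. -/
def Bdd (R : RootTab) (D : ChevalleyDatum) (f : Fin D.rank → ℤ) : Prop :=
  ∀ s : Fin D.nroots, |f ⬝ᵥ rcV R D s| ≤ 1

theorem bdd_tact (hF : Full T X R D) {ρ : Equiv.Perm (Fin D.nroots)} (hρ : ρ ∈ hF.Wk Set.univ)
    {f : Fin D.rank → ℤ} (hf : Bdd R D f) : Bdd R D ((mat hF ρ).transpose *ᵥ f) := by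
  intro s
  rw [tact_dot, ← mat_rc hF hρ]
  exact hf _

theorem coord_eq (hF : Full T X R D) (f : Fin D.rank → ℤ) (j : Fin D.rank) : f ⬝ᵥ rcV R D (hF.pF j) = f j := by
  rw [rcV_pF]
  simp

theorem bdd_coord (hF : Full T X R D) {f : Fin D.rank → ℤ} (hf : Bdd R D f) (j : Fin D.rank) : |f j| ≤ 1 := by
  rw [← coord_eq hF f j]
  exact hf _

theorem eq_zero_of_cast {r : ℕ} {g : ℤ} (h : (g : ZMod r) = 0) (hg : |g| < r) : g = 0 := by
  rw [ZMod.intCast_zmod_eq_zero_iff_dvd] at h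
  exact Int.eq_zero_of_abs_lt_dvd h hg

/-- Invariance of a class modulo `κ`. -/
theorem mat_class (hF : Full T X R D) {κ : ℤ} {z : Fin D.rank → ℤ}
    (hz : ∀ j : Fin D.rank, κ ∣ ∑ k : Fin D.rank, D.cartan j (D.simple k) * z k)
    {σ : Equiv.Perm (Fin D.nroots)} (hσ : σ ∈ hF.Wk Set.univ) (i : Fin D.rank) :
    κ ∣ (mat hF σ *ᵥ z - z) i := by
  classical
  have key : ∃ B : Matrix (Fin D.rank) (Fin D.rank) ℤ, (∀ s : Fin D.nroots, rcV R D (σ s) = B *ᵥ rcV R D s) ∧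
      ∀ i, κ ∣ (B *ᵥ z - z) i := by
    refine hF.Wk_induction (J := Set.univ)
      (p := fun σ => ∃ B : Matrix (Fin D.rank) (Fin D.rank) ℤ, (∀ s : Fin D.nroots, rcV R D (σ s) = B *ᵥ rcV R D s) ∧
        ∀ i, κ ∣ (B *ᵥ z - z) i)
      ⟨1, fun s => by simp, fun i => by simp⟩ ?_ σ hσ
    rintro σ j hj - ⟨B, hB, hB2⟩
    let S : Matrix (Fin D.rank) (Fin D.rank) ℤ := fun m k =>
      (if m = k then 1 else 0) - (if (m : ℕ) = j then D.cartan j (D.simple k) else 0)
    have hS : ∀ v : Fin D.rank → ℤ, ∀ m, (S *ᵥ v) m = v m -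
        (if (m : ℕ) = j then ∑ k : Fin D.rank, D.cartan j (D.simple k) * v k else 0) := by
      intro v m
      simp only [Matrix.mulVec, dotProduct, S, sub_mul, Finset.sum_sub_distrib]
      congr 1
      · simp
      · by_cases hm : (m : ℕ) = j
        · simp [hm]
        · simp [hm]
    refine ⟨B * S, fun s => ?_, fun i => ?_⟩
    · rw [Equiv.Perm.mul_apply, hB, ← Matrix.mulVec_mulVec]
      congr 1
      funext m
      show R.rcAt (X.wf j s) m = _
      rw [hF.r.wf_rc j hj s s.2 m m.2, hS]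
      show _ = R.rcAt s m - _
      congr 1
      by_cases hm : (m : ℕ) = j
      · rw [if_pos hm, if_pos hm, hF.r.cartan_lin j hj s s.2, sumZ_eq, Finset.sum_range]
        apply Finset.sum_congr rfl
        intro k _
        rw [mul_comm]
        rfl
      · rw [if_neg hm, if_neg hm]
    · rw [← Matrix.mulVec_mulVec]
      let Y : Fin D.rank → ℤ := fun m => if (m : ℕ) = j then ∑ k : Fin D.rank, D.cartan j (D.simple k) * z k else 0
      have hSz : S *ᵥ z = z - Y := by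
        funext m
        rw [hS]
        rfl
      rw [hSz, Matrix.mulVec_sub]
      have hY : ∀ m, κ ∣ Y m := by
        intro m
        by_cases hm : (m : ℕ) = j
        · have h1 := hz m
          simp only [Y]
          rw [if_pos hm]
          rw [← hm]
          exact h1
        · simp only [Y]
          rw [if_neg hm]
          exact dvd_zero _
      have h2 : κ ∣ (B *ᵥ Y) i := by
        show κ ∣ ∑ m, B i m * Y m
        apply Finset.dvd_sum
        intro m _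
        exact (hY m).mul_left _
      have h3 : (B *ᵥ z - B *ᵥ Y - z) i = (B *ᵥ z - z) i - (B *ᵥ Y) i := by
        simp only [Pi.sub_apply]
        ring
      rw [h3]
      exact dvd_sub (hB2 i) h2
  obtain ⟨B, hB, hB2⟩ := key
  have e : mat hF σ = B := by
    ext i j
    show rcV R D (σ (hF.pF j)) i = _
    rw [hB, rcV_pF, Matrix.mulVec_single_one]
    rfl
  rw [e]
  exact hB2 i

theorem tact_class (hF : Full T X R D) {κ : ℤ} {z : Fin D.rank → ℤ}
    (hz : ∀ j : Fin D.rank, κ ∣ ∑ k : Fin D.rank, D.cartan j (D.simple k) * z k)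
    {σ : Equiv.Perm (Fin D.nroots)} (hσ : σ ∈ hF.Wk Set.univ) (f : Fin D.rank → ℤ) :
    κ ∣ ((mat hF σ).transpose *ᵥ f) ⬝ᵥ z - f ⬝ᵥ z := by
  rw [tact_dot]
  have e : f ⬝ᵥ (mat hF σ *ᵥ z) - f ⬝ᵥ z = f ⬝ᵥ (mat hF σ *ᵥ z - z) := by
    rw [dotProduct_sub]
  rw [e]
  apply Finset.dvd_sum
  intro i _
  exact (mat_class hF hz hσ i).mul_left _

/-- Complementary eigenspaces of the inverse eigenvalues: a polynomial relation, impossible by classes. -/
theorem excl_a (hF : Full T X R D) {κ : ℤ} {z : Fin D.rank → ℤ}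
    (hz : ∀ j : Fin D.rank, κ ∣ ∑ k : Fin D.rank, D.cartan j (D.simple k) * z k)
    {f : Fin D.rank → ℤ} (hf : Bdd R D f) {t : ℤ} (ht : |t| ≤ 1) (hnum : ¬ κ ∣ (2 - t) * (f ⬝ᵥ z))
    {r : ℕ} [Fact r.Prime] (hr3 : 3 < r) {h : ℕ} (hh : 0 < h) (hrh : ¬ r ∣ h)
    {ρ : Equiv.Perm (Fin D.nroots)} (hρ : ρ ∈ hF.Wk Set.univ) (hA : mat hF ρ ^ h = 1) (hlr : D.rank < r)
    {u : ZMod r} (hu : u ^ h = 1) (hP : u ^ 2 - (t : ZMod r) * u + 1 = 0) (huu : u ≠ u⁻¹)
    (hm : 2 * Module.finrank (ZMod r) (Eg r (mat hF ρ) u) = D.rank) : False := by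
  classical
  set A := mat hF ρ with hAdef
  have hu0 : u ≠ 0 := by
    intro h0
    rw [h0, zero_pow (by omega)] at hu
    exact zero_ne_one hu
  have hinv : u ^ (h - 1) = u⁻¹ := by
    apply eq_inv_of_mul_eq_one_left
    rw [← pow_succ, Nat.sub_add_cancel hh, hu]
  have hcop : Nat.Coprime (h - 1) h := by
    obtain ⟨k, rfl⟩ : ∃ k, h = k + 1 := ⟨h - 1, by omega⟩
    simp
  have hdim : Module.finrank (ZMod r) (Eg r A u⁻¹) = Module.finrank (ZMod r) (Eg r A u) := by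
    rw [← hinv]
    exact finrank_Eg_pow A hh hrh hA hlr hu hcop
  have hsum := sum_finrank_iSup (fun μ => Eg r A μ) (Module.End.eigenspaces_iSupIndep (fE r A)) ({u, u⁻¹} : Finset (ZMod r))
  rw [Finset.sum_pair huu, hdim] at hsum
  have htop : (⨆ μ ∈ ({u, u⁻¹} : Finset (ZMod r)), Eg r A μ) = ⊤ := by
    apply Submodule.eq_top_of_finrank_eq
    rw [← hsum]
    simp only [Module.finrank_fintype_fun_eq_card, Fintype.card_fin]
    omega
  let P : Module.End (ZMod r) (Fin D.rank → ZMod r) := fE r A * fE r A - (t : ZMod r) • fE r A + 1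
  have hker : (⨆ μ ∈ ({u, u⁻¹} : Finset (ZMod r)), Eg r A μ) ≤ LinearMap.ker P := by
    apply iSup₂_le
    intro μ hμ x hx
    have h1 : fE r A x = μ • x := Module.End.mem_eigenspace_iff.1 hx
    have h2 : P x = (μ ^ 2 - (t : ZMod r) * μ + 1) • x := by
      simp only [P, LinearMap.sub_apply, LinearMap.add_apply, LinearMap.smul_apply, Module.End.mul_apply,
        Module.End.one_apply, h1, map_smul]
      rw [add_smul, sub_smul, one_smul, mul_smul, pow_two, mul_smul]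
    rw [LinearMap.mem_ker, h2]
    have h3 : μ ^ 2 - (t : ZMod r) * μ + 1 = 0 := by
      rcases Finset.mem_insert.1 hμ with rfl | hμ'
      · exact hP
      · rw [Finset.mem_singleton.1 hμ']
        have h4 : (u⁻¹) ^ 2 - (t : ZMod r) * u⁻¹ + 1 = (u⁻¹) ^ 2 * (u ^ 2 - (t : ZMod r) * u + 1) := by
          field_simp
          ring
        rw [h4, hP, mul_zero]
    rw [h3, zero_smul]
  rw [htop] at hker
  have hPf : P (cv r f) = 0 := hker (Submodule.mem_top)
  -- the integer relation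
  set g₁ := A.transpose *ᵥ f with hg₁
  set g₂ := A.transpose *ᵥ g₁ with hg₂
  have hb₁ : Bdd R D g₁ := bdd_tact hF hρ hf
  have hb₂ : Bdd R D g₂ := bdd_tact hF hρ hb₁
  have hfE : ∀ w : Fin D.rank → ℤ, fE r A (cv r w) = cv r (A.transpose *ᵥ w) := by
    intro w
    unfold fE
    rw [Matrix.toLin'_apply, cast_tact]
  have hPf2 : ∀ j, ((g₂ j - t * g₁ j + f j : ℤ) : ZMod r) = 0 := by
    intro j
    have h1 := congrFun hPf j
    simp only [P, LinearMap.sub_apply, LinearMap.add_apply, LinearMap.smul_apply, Module.End.mul_apply,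
      Module.End.one_apply, hfE] at h1
    push_cast
    exact h1
  have hzero : ∀ j, g₂ j - t * g₁ j + f j = 0 := by
    intro j
    apply eq_zero_of_cast (hPf2 j)
    have h1 := abs_le.1 (bdd_coord hF hb₂ j)
    have h2 := abs_le.1 (bdd_coord hF hb₁ j)
    have h3 := abs_le.1 (bdd_coord hF hf j)
    have h4 := abs_le.1 ht
    have h5 : (4 : ℤ) ≤ r := by exact_mod_cast hr3
    have h6 : |t * g₁ j| ≤ 1 := by
      rw [abs_mul]
      have := abs_nonneg t
      have := abs_nonneg (g₁ j)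
      have h7 := bdd_coord hF hb₁ j
      nlinarith
    have h8 := abs_le.1 h6
    rw [abs_lt]
    constructor <;> linarith [h1.1, h1.2, h3.1, h3.2, h8.1, h8.2]
  have hrel : g₂ ⬝ᵥ z - t * (g₁ ⬝ᵥ z) + f ⬝ᵥ z = 0 := by
    have e : g₂ ⬝ᵥ z - t * (g₁ ⬝ᵥ z) + f ⬝ᵥ z = ∑ i, (g₂ i - t * g₁ i + f i) * z i := by
      simp only [dotProduct, Finset.mul_sum, ← Finset.sum_sub_distrib, ← Finset.sum_add_distrib]
      apply Finset.sum_congr rfl
      intro i _
      ring
    rw [e]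
    apply Finset.sum_eq_zero
    intro i _
    rw [hzero i, zero_mul]
  have h1 := tact_class hF hz hρ f
  have h2 := tact_class hF hz hρ g₁
  apply hnum
  obtain ⟨a, ha⟩ := h1
  obtain ⟨b, hb⟩ := h2
  rw [← hg₁] at ha
  rw [← hg₂] at hb
  refine ⟨-(b + a) + t * a, ?_⟩
  have e1 : g₁ ⬝ᵥ z = f ⬝ᵥ z + κ * a := by linarith
  have e2 : g₂ ⬝ᵥ z = g₁ ⬝ᵥ z + κ * b := by linarith
  rw [e2, e1] at hrel
  linear_combination hrel

/-- A subspace of codimension at most one on which an element acts as `-1`. -/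
theorem exists_anti (hF : Full T X R D) {τ : Equiv.Perm (Fin D.nroots)} (hτ : τ ∈ hF.Wk Set.univ)
    {r : ℕ} [Fact r.Prime] (hr2 : 2 < r) (H : Submodule (ZMod r) (Fin D.rank → ZMod r))
    (hHdim : D.rank ≤ Module.finrank (ZMod r) H + 1)
    (hH : ∀ x ∈ H, redT r (mat hF τ) *ᵥ x = -x) {Good : (Fin D.rank → ℤ) → Prop}
    (hG : ∀ f, Good f → Bdd R D f) {f₀ : Fin D.rank → ℤ} (hf₀ : Good f₀)
    (hchk : ∀ s s' : Fin D.nroots, rcV R D s + rcV R D s' ≠ 0 →
      ∃ f, Good f ∧ f ⬝ᵥ rcV R D s + f ⬝ᵥ rcV R D s' = 0) :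
    ∃ f, Good f ∧ (mat hF τ).transpose *ᵥ f = -f := by
  classical
  set B := mat hF τ with hB
  have hrp : r.Prime := Fact.out
  have hexact : ∀ f, Bdd R D f → (∀ j, ((B.transpose *ᵥ f) j + f j : ZMod r) = 0) → B.transpose *ᵥ f = -f := by
    intro f hf h
    funext j
    have hb := bdd_tact hF hτ hf
    have h1 : (((B.transpose *ᵥ f) j + f j : ℤ) : ZMod r) = 0 := by
      push_cast
      exact h j
    have h2 := eq_zero_of_cast h1 (by
      have h3 := abs_le.1 (bdd_coord hF hb j)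
      have h4 := abs_le.1 (bdd_coord hF hf j)
      have h5 : (3 : ℤ) ≤ r := by exact_mod_cast hr2
      rw [abs_lt]
      constructor <;> linarith [h3.1, h3.2, h4.1, h4.2])
    rw [Pi.neg_apply]
    linarith
  by_cases hall : ∀ s : Fin D.nroots, cv r (rcV R D s + rcV R D (τ s)) = 0
  · refine ⟨f₀, hf₀, hexact _ (hG _ hf₀) ?_⟩
    intro j
    have h1 := congrFun (hall (hF.pF j))
    have h2 : ((B.transpose *ᵥ f₀) j : ℤ) + f₀ j = f₀ ⬝ᵥ (rcV R D (hF.pF j) + rcV R D (τ (hF.pF j))) := by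
      rw [dotProduct_add, coord_eq hF, mat_rc hF hτ, ← tact_dot, ← hB, coord_eq hF]
      ring
    have h3 : (((B.transpose *ᵥ f₀) j + f₀ j : ℤ) : ZMod r) = 0 := by
      rw [h2, ← cv_dot, hall (hF.pF j)]
      simp
    push_cast at h3
    exact h3
  · push Not at hall
    obtain ⟨s, hs⟩ := hall
    set v := rcV R D s + rcV R D (τ s) with hv
    have hv0 : v ≠ 0 := by
      intro h0
      apply hs
      rw [h0]
      funext i
      simp [cv]
    obtain ⟨f, hf, hfv⟩ := hchk s (τ s) hv0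
    refine ⟨f, hf, hexact _ (hG _ hf) ?_⟩
    let Lv : (Fin D.rank → ZMod r) →ₗ[ZMod r] ZMod r :=
      { toFun := fun x => x ⬝ᵥ cv r v
        map_add' := by intro x y; exact add_dotProduct _ _ _
        map_smul' := by intro a x; exact smul_dotProduct _ _ _ }
    have hLne : Lv ≠ 0 := by
      intro h0
      apply hs
      funext i
      have h1 : Lv (Pi.single i 1) = 0 := by rw [h0]; rfl
      have h2 : Lv (Pi.single i 1) = cv r v i := by
        show (Pi.single i 1 : Fin D.rank → ZMod r) ⬝ᵥ cv r v = cv r v i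
        simp
      rw [← h2, h1]
      rfl
    have hsurj : Function.Surjective Lv := LinearMap.surjective hLne
    have hrk := LinearMap.finrank_range_add_finrank_ker Lv
    rw [LinearMap.range_eq_top.2 hsurj, finrank_top, Module.finrank_self] at hrk
    simp only [Module.finrank_fintype_fun_eq_card, Fintype.card_fin] at hrk
    have hle : H ≤ LinearMap.ker Lv := by
      intro x hx
      rw [LinearMap.mem_ker]
      show x ⬝ᵥ cv r v = 0
      have h1 := hH x hx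
      have h2 : cv r v = cv r (rcV R D s) + cv r (B *ᵥ rcV R D s) := by
        rw [hv, mat_rc hF hτ]
        funext i
        simp [cv]
        rfl
      rw [h2, dotProduct_add]
      have h3 : x ⬝ᵥ cv r (B *ᵥ rcV R D s) = (redT r B *ᵥ x) ⬝ᵥ cv r (rcV R D s) := by
        simp only [dotProduct, Matrix.mulVec, cv, redT]
        push_cast
        simp only [dotProduct, Finset.mul_sum, Finset.sum_mul]
        rw [Finset.sum_comm]
        apply Finset.sum_congr rfl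
        intro i _
        apply Finset.sum_congr rfl
        intro j _
        ring
      rw [h3, h1, neg_dotProduct, add_neg_cancel]
    have heq : H = LinearMap.ker Lv := by
      apply Submodule.eq_of_le_of_finrank_le hle
      omega
    have hfH : cv r f ∈ H := by
      rw [heq, LinearMap.mem_ker]
      show cv r f ⬝ᵥ cv r v = 0
      rw [cv_dot, hv, dotProduct_add, hfv]
      simp
    have h1 := hH _ hfH
    rw [cast_tact] at h1
    intro j
    have h2 := congrFun h1 j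
    simp only [cv, Pi.neg_apply] at h2
    rw [h2]
    simp

theorem excl_b (hF : Full T X R D) {κ : ℤ} {z : Fin D.rank → ℤ}
    (hz : ∀ j : Fin D.rank, κ ∣ ∑ k : Fin D.rank, D.cartan j (D.simple k) * z k)
    {Good : (Fin D.rank → ℤ) → Prop} (hG : ∀ f, Good f → Bdd R D f) (hG2 : ∀ f, Good f → ¬ κ ∣ 2 * (f ⬝ᵥ z))
    {f₀ : Fin D.rank → ℤ} (hf₀ : Good f₀)
    (hchk : ∀ s s' : Fin D.nroots, rcV R D s + rcV R D s' ≠ 0 →
      ∃ f, Good f ∧ f ⬝ᵥ rcV R D s + f ⬝ᵥ rcV R D s' = 0)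
    {r : ℕ} [Fact r.Prime] (hr2 : 2 < r) {ρ : Equiv.Perm (Fin D.nroots)} (hρ : ρ ∈ hF.Wk Set.univ)
    (hm : D.rank ≤ Module.finrank (ZMod r) (Eg r (mat hF ρ) (-1)) + 1) : False := by
  obtain ⟨f, hf, hfa⟩ := exists_anti hF hρ hr2 (Eg r (mat hF ρ) (-1)) hm
    (fun x hx => by rw [mem_Eg.1 hx]; simp) hG hf₀ hchk
  have h1 := tact_class hF hz hρ f
  rw [hfa, neg_dotProduct] at h1
  apply hG2 f hf
  have e : 2 * (f ⬝ᵥ z) = -(-(f ⬝ᵥ z) - f ⬝ᵥ z) := by ring
  rw [e]
  exact (dvd_neg).2 h1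

/-- The root form. -/
noncomputable def Bf (R : RootTab) (D : ChevalleyDatum) (a b : Fin D.rank → ℤ) : ℤ :=
  ∑ s : Fin D.nroots, (a ⬝ᵥ rcV R D s) * (b ⬝ᵥ rcV R D s)

theorem Bf_inv (hF : Full T X R D) {ρ : Equiv.Perm (Fin D.nroots)} (hρ : ρ ∈ hF.Wk Set.univ) (a b : Fin D.rank → ℤ) :
    Bf R D ((mat hF ρ).transpose *ᵥ a) ((mat hF ρ).transpose *ᵥ b) = Bf R D a b := by
  unfold Bf
  simp only [tact_dot, ← mat_rc hF hρ]
  exact Equiv.sum_comp ρ (fun s : Fin D.nroots => (a ⬝ᵥ rcV R D s) * (b ⬝ᵥ rcV R D s))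

theorem Bf_cong {z : Fin D.rank → ℤ}
    (hM : ∀ i j : Fin D.rank, (36 : ℤ) ∣ (∑ s : Fin D.nroots, rcV R D s i * rcV R D s j) - 18 * z i * z j)
    (a b : Fin D.rank → ℤ) : (36 : ℤ) ∣ Bf R D a b - 18 * (a ⬝ᵥ z) * (b ⬝ᵥ z) := by
  have e1 : Bf R D a b = ∑ i, ∑ j, a i * b j * (∑ s : Fin D.nroots, rcV R D s i * rcV R D s j) := by
    unfold Bf
    simp only [dotProduct, Finset.sum_mul_sum]
    rw [Finset.sum_comm]
    apply Finset.sum_congr rfl
    intro i _
    rw [Finset.sum_comm]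
    apply Finset.sum_congr rfl
    intro j _
    rw [Finset.mul_sum]
    apply Finset.sum_congr rfl
    intro s _
    ring
  have e2 : 18 * (a ⬝ᵥ z) * (b ⬝ᵥ z) = ∑ i, ∑ j, a i * b j * (18 * z i * z j) := by
    rw [mul_assoc]
    simp only [dotProduct, Finset.sum_mul_sum]
    rw [Finset.mul_sum]
    apply Finset.sum_congr rfl
    intro i _
    rw [Finset.mul_sum]
    apply Finset.sum_congr rfl
    intro j _
    ring
  rw [e1, e2, ← Finset.sum_sub_distrib]
  apply Finset.dvd_sum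
  intro i _
  rw [← Finset.sum_sub_distrib]
  apply Finset.dvd_sum
  intro j _
  rw [← mul_sub]
  exact (hM i j).mul_left _

theorem excl_c (hF : Full T X R D) {z : Fin D.rank → ℤ}
    (hz : ∀ j : Fin D.rank, (2 : ℤ) ∣ ∑ k : Fin D.rank, D.cartan j (D.simple k) * z k)
    (hM : ∀ i j : Fin D.rank, (36 : ℤ) ∣ (∑ s : Fin D.nroots, rcV R D s i * rcV R D s j) - 18 * z i * z j)
    {Good : (Fin D.rank → ℤ) → Prop} (hG : ∀ f, Good f → Bdd R D f) (hG2 : ∀ f, Good f → ¬ (2 : ℤ) ∣ f ⬝ᵥ z)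
    {f₀ : Fin D.rank → ℤ} (hf₀ : Good f₀)
    (hchk : ∀ s s' : Fin D.nroots, rcV R D s + rcV R D s' ≠ 0 →
      ∃ f, Good f ∧ f ⬝ᵥ rcV R D s + f ⬝ᵥ rcV R D s' = 0)
    {r : ℕ} [Fact r.Prime] (hr3 : 3 < r) {h : ℕ} (hh : 0 < h) (hrh : ¬ r ∣ h)
    {ρ : Equiv.Perm (Fin D.nroots)} (hρ : ρ ∈ hF.Wk Set.univ) (hA : mat hF ρ ^ h = 1) (hlr : D.rank < r)
    {u : ZMod r} (hu : u ^ h = 1) (hu2 : u ^ 2 = -1)
    (hm : D.rank ≤ 2 * Module.finrank (ZMod r) (Eg r (mat hF ρ) u) + 1) : False := by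
  classical
  set A := mat hF ρ with hAdef
  have hrp : r.Prime := Fact.out
  have hu0 : u ≠ 0 := by
    intro h0
    rw [h0, zero_pow (by omega)] at hu
    exact zero_ne_one hu
  have hm1 : (-1 : ZMod r) ≠ 1 := by
    intro h1
    have h2 : (2 : ZMod r) = 0 := by linear_combination -h1
    have h3 : ((2 : ℕ) : ZMod r) = 0 := by exact_mod_cast h2
    have h4 := (ZMod.natCast_eq_zero_iff _ _).1 h3
    have := Nat.le_of_dvd (by norm_num) h4
    omega
  have huu : u ≠ u⁻¹ := by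
    intro h1
    have h2 : u ^ 2 = 1 := by
      rw [pow_two]
      nth_rw 1 [h1]
      exact inv_mul_cancel₀ hu0
    rw [hu2] at h2
    exact hm1 h2
  have hinv : u ^ (h - 1) = u⁻¹ := by
    apply eq_inv_of_mul_eq_one_left
    rw [← pow_succ, Nat.sub_add_cancel hh, hu]
  have hcop : Nat.Coprime (h - 1) h := by
    obtain ⟨k, rfl⟩ : ∃ k, h = k + 1 := ⟨h - 1, by omega⟩
    simp
  have hdim : Module.finrank (ZMod r) (Eg r A u⁻¹) = Module.finrank (ZMod r) (Eg r A u) := by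
    rw [← hinv]
    exact finrank_Eg_pow A hh hrh hA hlr hu hcop
  have hsum := sum_finrank_iSup (fun μ => Eg r A μ) (Module.End.eigenspaces_iSupIndep (fE r A)) ({u, u⁻¹} : Finset (ZMod r))
  rw [Finset.sum_pair huu, hdim] at hsum
  set H := ⨆ μ ∈ ({u, u⁻¹} : Finset (ZMod r)), Eg r A μ with hHdef
  let P : Module.End (ZMod r) (Fin D.rank → ZMod r) := fE r A * fE r A + 1
  have hker : H ≤ LinearMap.ker P := by
    apply iSup₂_le
    intro μ hμ x hx
    have h1 : fE r A x = μ • x := Module.End.mem_eigenspace_iff.1 hx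
    have h2 : P x = (μ ^ 2 + 1) • x := by
      simp only [P, LinearMap.add_apply, Module.End.mul_apply, Module.End.one_apply, h1, map_smul]
      rw [add_smul, one_smul, pow_two, mul_smul]
    rw [LinearMap.mem_ker, h2]
    have h3 : μ ^ 2 + 1 = 0 := by
      rcases Finset.mem_insert.1 hμ with rfl | hμ'
      · rw [hu2]; ring
      · rw [Finset.mem_singleton.1 hμ', inv_pow, hu2]
        have h4 : ((-1 : ZMod r))⁻¹ = -1 := by
          rw [inv_neg, inv_one]
        rw [h4]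
        ring
    rw [h3, zero_smul]
  have hτ : ρ ^ 2 ∈ hF.Wk Set.univ := pow_mem hρ 2
  have hmatτ : mat hF (ρ ^ 2) = A ^ 2 := mat_pow hF hρ 2
  have hH : ∀ x ∈ H, redT r (mat hF (ρ ^ 2)) *ᵥ x = -x := by
    intro x hx
    have h1 : P x = 0 := hker hx
    have h2 : fE r A (fE r A x) + x = 0 := h1
    rw [hmatτ, redT_pow, pow_two, ← Matrix.mulVec_mulVec]
    have h3 : ∀ w, fE r A w = redT r A *ᵥ w := by
      intro w
      unfold fE
      rw [Matrix.toLin'_apply]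
    rw [h3, h3] at h2
    exact eq_neg_of_add_eq_zero_left h2
  obtain ⟨f, hf, hfa⟩ := exists_anti hF hτ (by omega) H (by rw [← hsum]; omega) hH hG hf₀ hchk
  rw [hmatτ, pow_two, Matrix.transpose_mul, ← Matrix.mulVec_mulVec] at hfa
  set g := A.transpose *ᵥ f with hg
  have h1 : Bf R D g (A.transpose *ᵥ g) = Bf R D f g := Bf_inv hF hρ f g
  rw [hfa] at h1
  have hneg : Bf R D g (-f) = - Bf R D f g := by
    unfold Bf
    rw [← Finset.sum_neg_distrib]
    apply Finset.sum_congr rfl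
    intro s _
    rw [neg_dotProduct]
    ring
  rw [hneg] at h1
  have h0 : Bf R D f g = 0 := by linarith
  have h2 := Bf_cong hM f g
  rw [h0] at h2
  have hodd1 : ¬ (2 : ℤ) ∣ f ⬝ᵥ z := hG2 f hf
  have h3 := tact_class hF hz hρ f
  rw [← hAdef, ← hg] at h3
  have hodd2 : ¬ (2 : ℤ) ∣ g ⬝ᵥ z := by
    intro h4
    apply hodd1
    have h5 := dvd_sub h4 h3
    have e : g ⬝ᵥ z - (g ⬝ᵥ z - f ⬝ᵥ z) = f ⬝ᵥ z := by ring
    rwa [e] at h5
  obtain ⟨x, hx⟩ : ∃ x, f ⬝ᵥ z = 2 * x + 1 := ⟨(f ⬝ᵥ z) / 2, by omega⟩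
  obtain ⟨y, hy⟩ : ∃ y, g ⬝ᵥ z = 2 * y + 1 := ⟨(g ⬝ᵥ z) / 2, by omega⟩
  rw [hx, hy] at h2
  have e : (0 : ℤ) - 18 * (2 * x + 1) * (2 * y + 1) = 36 * (-(2 * x * y + x + y)) - 18 := by ring
  rw [e] at h2
  omega

end Cfsg.Agent.Lib.Syl54
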