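import Mathlib

/-!
# Valuations of `q ^ e - 1`
-/

set_option autoImplicit false
set_option linter.unusedSectionVars false
set_option linter.unusedVariables false
set_option linter.unusedSimpArgs false

namespace Cfsg.Agent.Lib.Syl54

open Polynomial

theorem pow_eq_one_iff_dvd {r : ℕ} {q : ℕ} (hq : 0 < q) (e : ℕ) : (q : ZMod r) ^ e = 1 ↔ r ∣ q ^ e - 1 := by
  have h1 : 1 ≤ q ^ e := Nat.one_le_pow _ _ hq
  rw [← ZMod.natCast_eq_zero_iff, Nat.cast_sub h1]
  push_cast
  rw [sub_eq_zero]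

theorem geom_eq (u k : ℕ) : (u + 1) ^ k - 1 = u * ∑ i ∈ Finset.range k, (u + 1) ^ i := by
  rw [mul_comm, ← geom_sum_mul_add u k]
  simp

theorem geom_cast {r : ℕ} {u : ℕ} (hu : r ∣ u) (k : ℕ) :
    ((∑ i ∈ Finset.range k, (u + 1) ^ i : ℕ) : ZMod r) = k := by
  have h : (u : ZMod r) = 0 := (ZMod.natCast_eq_zero_iff _ _).2 hu
  push_cast
  simp [h]

section

variable {r : ℕ} [Fact r.Prime] {q : ℕ} (hq2 : 2 ≤ q)

include hq2

theorem val_of_dvd {d e : ℕ} (hd : d ∣ e) (he : 0 < e) (hd0 : 0 < d) (hrd : r ∣ q ^ d - 1) (hre : ¬ r ∣ e) :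
    padicValNat r (q ^ e - 1) = padicValNat r (q ^ d - 1) := by
  obtain ⟨k, rfl⟩ := hd
  have hk0 : 0 < k := Nat.pos_of_mul_pos_left he |> fun _ => by
    rcases Nat.eq_zero_or_pos k with h | h
    · subst h; simp at he
    · exact h
  have hQ : 1 ≤ q ^ d := Nat.one_le_pow _ _ (by omega)
  obtain ⟨u, hu⟩ : ∃ u, q ^ d = u + 1 := ⟨q ^ d - 1, by omega⟩
  have hu0 : 0 < u := by
    have h2 : q ≤ q ^ d := by
      calc q = q ^ 1 := (pow_one q).symm
        _ ≤ q ^ d := Nat.pow_le_pow_right (by omega) hd0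
    omega
  rw [pow_mul, hu]
  simp only [Nat.add_sub_cancel]
  rw [hu] at hrd
  simp only [Nat.add_sub_cancel] at hrd
  rw [geom_eq]
  have hrk : ¬ r ∣ k := fun h => hre (h.trans (Dvd.intro_left d rfl))
  have hS : ¬ r ∣ ∑ i ∈ Finset.range k, (u + 1) ^ i := by
    intro h
    apply hrk
    rw [← ZMod.natCast_eq_zero_iff] at h ⊢
    rw [← geom_cast hrd k]
    exact h
  have hS0 : ∑ i ∈ Finset.range k, (u + 1) ^ i ≠ 0 := fun h0 => hS (by rw [h0]; exact dvd_zero _)
  rw [padicValNat.mul hu0.ne' hS0, padicValNat.eq_zero_of_not_dvd hS, add_zero]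

theorem val_cyclotomic (hrq : ¬ r ∣ q) :
    padicValNat r ((cyclotomic (orderOf (q : ZMod r)) ℤ).eval (q : ℤ)).natAbs =
      padicValNat r (q ^ orderOf (q : ZMod r) - 1) := by
  classical
  have hrp : r.Prime := Fact.out
  have hq0 : (q : ZMod r) ≠ 0 := fun h => hrq ((ZMod.natCast_eq_zero_iff _ _).1 h)
  set d := orderOf (q : ZMod r) with hd
  have hfin : IsOfFinOrder (q : ZMod r) := by
    have h1 : IsUnit (q : ZMod r) := isUnit_iff_ne_zero.2 hq0
    exact h1.isOfFinOrder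
  have hd0 : 0 < d := hfin.orderOf_pos
  have h1 : cyclotomic d ℤ * ∏ b ∈ d.properDivisors, cyclotomic b ℤ = X ^ d - 1 := by
    rw [← prod_cyclotomic_eq_X_pow_sub_one hd0, ← Nat.insert_self_properDivisors hd0.ne',
      Finset.prod_insert Nat.self_notMem_properDivisors]
  have h2 := congrArg (eval (q : ℤ)) h1
  simp only [eval_mul, eval_sub, eval_pow, eval_X, eval_one, eval_prod] at h2
  set a := (cyclotomic d ℤ).eval (q : ℤ) with ha
  set b := ∏ x ∈ d.properDivisors, (cyclotomic x ℤ).eval (q : ℤ) with hb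
  have hQ : 1 ≤ q ^ d := Nat.one_le_pow _ _ (by omega)
  have hQ2 : q ≤ q ^ d := by
    calc q = q ^ 1 := (pow_one q).symm
      _ ≤ q ^ d := Nat.pow_le_pow_right (by omega) hd0
  have h3 : (q : ℤ) ^ d - 1 = ((q ^ d - 1 : ℕ) : ℤ) := by
    rw [Nat.cast_sub hQ]
    push_cast
    rfl
  rw [h3] at h2
  have h4 : a.natAbs * b.natAbs = q ^ d - 1 := by
    rw [← Int.natAbs_mul, h2, Int.natAbs_natCast]
  have hne : q ^ d - 1 ≠ 0 := by omega
  have ha0 : a.natAbs ≠ 0 := fun h0 => hne (by rw [← h4, h0, zero_mul])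
  have hb0 : b.natAbs ≠ 0 := fun h0 => hne (by rw [← h4, h0, mul_zero])
  have hrb : ¬ r ∣ b.natAbs := by
    intro h
    have h5 : (r : ℤ) ∣ b := Int.natCast_dvd.2 h
    have hrp' : Prime (r : ℤ) := Nat.prime_iff_prime_int.1 hrp
    rw [hb] at h5
    obtain ⟨x, hx, h6⟩ := (Prime.dvd_finset_prod_iff hrp' _).1 h5
    have hxd := Nat.mem_properDivisors.1 hx
    have hx0 : 0 < x := Nat.pos_of_dvd_of_pos hxd.1 hd0
    obtain ⟨k, hk⟩ := cyclotomic.dvd_X_pow_sub_one x ℤ
    have h7 := congrArg (eval (q : ℤ)) hk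
    simp only [eval_mul, eval_sub, eval_pow, eval_X, eval_one] at h7
    have h8 : (r : ℤ) ∣ (q : ℤ) ^ x - 1 := by
      rw [h7]
      exact h6.mul_right _
    have hx1 : 1 ≤ q ^ x := Nat.one_le_pow _ _ (by omega)
    have h9 : (r : ℤ) ∣ ((q ^ x - 1 : ℕ) : ℤ) := by
      rw [Nat.cast_sub hx1]
      push_cast
      exact h8
    have h10 : r ∣ q ^ x - 1 := Int.natCast_dvd_natCast.1 h9
    have h11 := (pow_eq_one_iff_dvd (by omega) x).2 h10
    have h12 := orderOf_dvd_of_pow_eq_one h11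
    have := Nat.le_of_dvd hx0 h12
    omega
  rw [← h4, padicValNat.mul ha0 hb0, padicValNat.eq_zero_of_not_dvd hrb, add_zero]

theorem val_of_not_dvd {e : ℕ} (hd : ¬ orderOf (q : ZMod r) ∣ e) : padicValNat r (q ^ e - 1) = 0 := by
  apply padicValNat.eq_zero_of_not_dvd
  intro h
  exact hd (orderOf_dvd_of_pow_eq_one ((pow_eq_one_iff_dvd (by omega) e).2 h))

theorem val_list (hrq : ¬ r ∣ q) (E : List ℕ) (hE : ∀ e ∈ E, 0 < e) (hrE : ¬ r ∣ E.prod) :
    padicValNat r (E.map (fun e => q ^ e - 1)).prod =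
      padicValNat r (q ^ orderOf (q : ZMod r) - 1) * (E.filter (fun e => orderOf (q : ZMod r) ∣ e)).length := by
  have hrp : r.Prime := Fact.out
  have hq0 : (q : ZMod r) ≠ 0 := fun h => hrq ((ZMod.natCast_eq_zero_iff _ _).1 h)
  have hfin : IsOfFinOrder (q : ZMod r) := (isUnit_iff_ne_zero.2 hq0).isOfFinOrder
  have hd0 : 0 < orderOf (q : ZMod r) := hfin.orderOf_pos
  have hne : ∀ e, 0 < e → q ^ e - 1 ≠ 0 := by
    intro e he
    have h2 : q ≤ q ^ e := by
      calc q = q ^ 1 := (pow_one q).symm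
        _ ≤ q ^ e := Nat.pow_le_pow_right (by omega) he
    omega
  induction E with
  | nil => simp
  | cons e E ih =>
    have he : 0 < e := hE e (List.mem_cons_self ..)
    have hE' : ∀ x ∈ E, 0 < x := fun x hx => hE x (List.mem_cons_of_mem _ hx)
    have hre : ¬ r ∣ e := fun h => hrE (by rw [List.prod_cons]; exact h.mul_right _)
    have hrE' : ¬ r ∣ E.prod := fun h => hrE (by rw [List.prod_cons]; exact h.mul_left _)
    have hprod : (E.map (fun e => q ^ e - 1)).prod ≠ 0 := by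
      apply List.prod_ne_zero
      intro h0
      obtain ⟨x, hx, h1⟩ := List.mem_map.1 h0
      exact hne x (hE' x hx) h1
    rw [List.map_cons, List.prod_cons, padicValNat.mul (hne e he) hprod, ih hE' hrE']
    by_cases hd : orderOf (q : ZMod r) ∣ e
    · rw [List.filter_cons_of_pos (by simpa using hd), List.length_cons, mul_add, mul_one, add_comm]
      congr 1
      exact val_of_dvd hq2 hd he hd0 ((pow_eq_one_iff_dvd (by omega) _).1 (pow_orderOf_eq_one _)) hre
    · rw [List.filter_cons_of_neg (by simpa using hd), val_of_not_dvd hq2 hd, zero_add]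

end

/-- The product over a list of degrees. -/
theorem prod_sub_one (u : ℕ) (E : List ℕ) :
    (E.map (fun e => (u + 1) ^ e - 1)).prod =
      u ^ E.length * (E.map (fun e => ∑ i ∈ Finset.range e, (u + 1) ^ i)).prod := by
  induction E with
  | nil => simp
  | cons e E ih =>
    rw [List.map_cons, List.prod_cons, ih, List.map_cons, List.prod_cons, List.length_cons, geom_eq]
    ring

theorem prod_geom_cast {r u : ℕ} (hu : r ∣ u) (E : List ℕ) :
    (((E.map (fun e => ∑ i ∈ Finset.range e, (u + 1) ^ i)).prod : ℕ) : ZMod r) = (E.prod : ℕ) := by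
  induction E with
  | nil => simp
  | cons e E ih =>
    rw [List.map_cons, List.prod_cons, List.prod_cons, Nat.cast_mul, Nat.cast_mul, ih, geom_cast hu]

/-- The index of the torus is prime to `r`. -/
theorem index_not_dvd {G : Type*} [Group G] (H L : Subgroup G) (hle : H ≤ L) {Q g N : ℕ} (E : List ℕ) {r : ℕ}
    [Fact r.Prime] (hQ : 1 ≤ Q) (hrQ : r ∣ Q - 1) (hQ1 : 1 < Q) (hrE : ¬ r ∣ E.prod) (hg : 0 < g)
    (hL : g * Nat.card ↥L = Q ^ N * (E.map (fun e => Q ^ e - 1)).prod)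
    (hH : g * Nat.card ↥H = (Q - 1) ^ E.length) :
    ¬ r ∣ (H.subgroupOf L).index := by
  have h3 : Nat.card ↥(H.subgroupOf L) = Nat.card ↥H :=
    Nat.card_congr (Subgroup.subgroupOfEquivOfLe hle).toEquiv
  have h4 := Subgroup.card_mul_index (H.subgroupOf L)
  rw [h3] at h4
  obtain ⟨u, hu⟩ : ∃ u, Q = u + 1 := ⟨Q - 1, by omega⟩
  subst hu
  simp only [Nat.add_sub_cancel] at hH hrQ
  have hu0 : 0 < u := by omega
  rw [prod_sub_one] at hL
  set idx := (H.subgroupOf L).index with hidx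
  set P := (E.map (fun e => ∑ i ∈ Finset.range e, (u + 1) ^ i)).prod with hP
  have h5 : idx = (u + 1) ^ N * P := by
    have h7 : 0 < u ^ E.length := pow_pos hu0 _
    apply Nat.eq_of_mul_eq_mul_left h7
    calc u ^ E.length * idx = g * Nat.card ↥H * idx := by rw [hH]
      _ = g * (Nat.card ↥H * idx) := by ring
      _ = g * Nat.card ↥L := by rw [h4]
      _ = (u + 1) ^ N * (u ^ E.length * P) := hL
      _ = _ := by ring
  intro hd
  have hu0' : (u : ZMod r) = 0 := (ZMod.natCast_eq_zero_iff u r).2 hrQ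
  have h7 : (idx : ZMod r) = 0 := (ZMod.natCast_eq_zero_iff _ _).2 hd
  rw [h5, Nat.cast_mul, hP, prod_geom_cast hrQ] at h7
  push_cast at h7
  simp only [hu0', zero_add, one_pow, one_mul] at h7
  apply hrE
  apply (ZMod.natCast_eq_zero_iff _ _).1
  exact_mod_cast h7

end Cfsg.Agent.Lib.Syl54
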