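import Cfsg.Agent.Lib.Syl54.Conj
import Cfsg.Agent.Lib.Syl54.Val
import Cfsg.Agent.Lib.TwTorE832

/-!
# The Sylow subgroups of a Chevalley group for primes prime to the Weyl group: the generic theorem
-/

set_option autoImplicit false
set_option linter.unusedSectionVars false
set_option linter.unusedVariables false
set_option linter.unusedSimpArgs false

namespace Cfsg.Agent.Lib.Syl54

open Cfsg Cfsg.Lie Cfsg.Agent.Lib.Chev Matrix Cfsg.Agent.Lib.ChevFix Cfsg.Agent.Lib.TwTor32

universe u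

variable {T : Tabs} {X : Extra} {R : RootTab} {D : ChevalleyDatum}

theorem mat_pow_card (hF : Full T X R D) {ρ : Equiv.Perm (Fin D.nroots)} (hρ : ρ ∈ hF.Wk Set.univ) :
    mat hF ρ ^ Nat.card ↥(hF.Wk Set.univ) = 1 := by
  rw [← mat_pow hF hρ]
  have h1 : (⟨ρ, hρ⟩ : ↥(hF.Wk Set.univ)) ^ Nat.card ↥(hF.Wk Set.univ) = 1 := pow_card_eq_one'
  have h2 : ρ ^ Nat.card ↥(hF.Wk Set.univ) = 1 := congrArg Subtype.val h1
  rw [h2, mat_one]

theorem eig_pow_one {l r : ℕ} [Fact r.Prime] {A : Matrix (Fin l) (Fin l) ℤ} {h : ℕ} (hA : A ^ h = 1) {u : ZMod r}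
    (hne : 0 < Module.finrank (ZMod r) (Eg r A u)) : u ^ h = 1 := by
  classical
  have h1 : Eg r A u ≠ ⊥ := by
    intro h0
    rw [h0, finrank_bot] at hne
    exact absurd hne (lt_irrefl 0)
  obtain ⟨x, hx, hx0⟩ := Submodule.exists_mem_ne_zero_of_ne_bot h1
  have h2 := mem_Eg_pow A hx h
  rw [fE_pow_h A hA, Module.End.one_apply] at h2
  have h3 : (u ^ h - 1) • x = 0 := by
    rw [sub_smul, one_smul, ← h2, sub_self]
  rcases smul_eq_zero.1 h3 with h4 | h4
  · exact sub_eq_zero.1 h4
  · exact absurd h4 hx0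

/-- **The generic theorem.** -/
theorem generic (hF : Full T X R D) (E : List ℕ) (N : ℕ) (g : ℕ → ℕ) (hE0 : ∀ e ∈ E, 0 < e)
    (hlen : E.length = D.rank) (hg0 : ∀ n, 0 < g n) (hgr : ∀ r n : ℕ, r.Prime → ¬ r ∣ E.prod → ¬ r ∣ g n)
    (hG : ∀ (K : Type) [Field K] [Fintype K], g (Fintype.card K) * Nat.card ↥(D.group K) =
      Fintype.card K ^ N * (E.map (fun e => Fintype.card K ^ e - 1)).prod)
    (hTt : ∀ (K : Type) [Field K] [Fintype K], g (Fintype.card K) * Nat.card ↥(D.diagonalSubgroup K) =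
      (Fintype.card K - 1) ^ D.rank)
    (hW : Nat.card ↥(hF.Wk Set.univ) = E.prod)
    (hbd : ∀ (r : ℕ) [Fact r.Prime], ¬ r ∣ E.prod → ∀ ρ ∈ hF.Wk Set.univ, ∀ u : ZMod r, u ^ E.prod = 1 →
      E.filter (fun e => orderOf u ∣ e) ≠ [] →
      Module.finrank (ZMod r) (Eg r (mat hF ρ) u) ≤ (E.filter (fun e => orderOf u ∣ e)).length)
    {F : Type u} [Field F] [Fintype F]
    (hGF : g (Fintype.card F) * Nat.card ↥(D.group F) =
      Fintype.card F ^ N * (E.map (fun e => Fintype.card F ^ e - 1)).prod)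
    {q : ℕ} (hq : Fintype.card F = q) (r : ℕ) [Fact r.Prime]
    (hrq : ¬ r ∣ q) (hrW : ¬ r ∣ E.prod) (hrG : r ∣ Nat.card ↥(D.group F)) (P : Sylow r ↥(D.group F)) :
    Nonempty (↥(P : Subgroup ↥(D.group F)) ≃*
      (Fin (E.filter (fun e => orderOf (q : ZMod r) ∣ e)).length →
        Multiplicative (ZMod (r ^ padicValNat r ((Polynomial.cyclotomic (orderOf (q : ZMod r)) ℤ).eval (q : ℤ)).natAbs)))) := by
  classical
  have hrp : r.Prime := Fact.out
  have hq2 : 2 ≤ q := by
    have := Fintype.one_lt_card (α := F)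
    omega
  have hq0 : (q : ZMod r) ≠ 0 := fun h => hrq ((ZMod.natCast_eq_zero_iff _ _).1 h)
  have hfin : IsOfFinOrder (q : ZMod r) := (isUnit_iff_ne_zero.2 hq0).isOfFinOrder
  have hd0 : 0 < orderOf (q : ZMod r) := hfin.orderOf_pos
  rw [val_cyclotomic hq2 hrq]
  set d := orderOf (q : ZMod r) with hd
  set v := padicValNat r (q ^ d - 1) with hv
  set a := (E.filter (fun e => d ∣ e)).length with ha
  -- the order of the Sylow subgroup
  have hGne : Nat.card ↥(D.group F) ≠ 0 := Nat.card_pos.ne'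
  have hvalG : padicValNat r (Nat.card ↥(D.group F)) = v * a := by
    have h1 := hGF
    rw [hq] at h1
    have h2 := congrArg (padicValNat r) h1
    have hprodne : (E.map (fun e => q ^ e - 1)).prod ≠ 0 := by
      apply List.prod_ne_zero
      intro h0
      obtain ⟨x, hx, h3⟩ := List.mem_map.1 h0
      have h4 : q ≤ q ^ x := by
        calc q = q ^ 1 := (pow_one q).symm
          _ ≤ q ^ x := Nat.pow_le_pow_right (by omega) (hE0 x hx)
      omega
    have hqN : ¬ r ∣ q ^ N := fun h => hrq (hrp.dvd_of_dvd_pow h)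
    rw [padicValNat.mul (hg0 _).ne' hGne, padicValNat.mul (pow_ne_zero _ (by omega)) hprodne,
      padicValNat.eq_zero_of_not_dvd (hgr r _ hrp hrW), padicValNat.eq_zero_of_not_dvd hqN, zero_add, zero_add,
      val_list hq2 hrq E hE0 hrW] at h2
    exact h2
  have hcardP : Nat.card ↥(P : Subgroup ↥(D.group F)) = r ^ (v * a) := by
    rw [Sylow.card_eq_multiplicity, Nat.factorization_def _ hrp, hvalG]
  have hva : 0 < v * a := by
    rw [← hvalG]
    haveI : Fact r.Prime := ⟨hrp⟩
    exact Nat.pos_of_ne_zero (by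
      intro h0
      have h1 := padicValNat_dvd_iff_le (p := r) (a := Nat.card ↥(D.group F)) (n := 1) hGne
      rw [h0] at h1
      have h2 : r ^ 1 ∣ Nat.card ↥(D.group F) := by rwa [pow_one]
      have := h1.1 h2
      omega)
  have hv0 : 1 ≤ v := Nat.pos_of_mul_pos_right hva |> fun _ => by
    rcases Nat.eq_zero_or_pos v with h | h
    · rw [h, zero_mul] at hva; omega
    · exact h
  have ha0 : 0 < a := by
    rcases Nat.eq_zero_or_pos a with h | h
    · rw [h, mul_zero] at hva; omega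
    · exact h
  -- the extension
  obtain ⟨p', hp'⟩ := CharP.exists F
  have hpp : p'.Prime := CharP.char_is_prime F p'
  haveI : Fact p'.Prime := ⟨hpp⟩
  haveI : NeZero d := ⟨hd0.ne'⟩
  let K := FiniteField.Extension F p' d
  letI : Fintype K := Fintype.ofFinite _
  have hKq : Fintype.card K = q ^ d := by
    rw [← Nat.card_eq_fintype_card, FiniteField.natCard_extension, Nat.card_eq_fintype_card, hq]
  let σ : K ≃+* K := RingEquiv.ofBijective (FiniteField.frobeniusAlgHom F K : K →ₐ[F] K).toRingHom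
    (Finite.injective_iff_bijective.1 (RingHom.injective _))
  have hσ : ∀ x : K, σ x = x ^ q := by
    intro x
    show x ^ Fintype.card F = x ^ q
    rw [hq]
  let f : F →+* K := algebraMap F K
  have hfσ : ∀ b, σ (f b) = f b := by
    intro b
    rw [hσ, ← map_pow, ← hq, FiniteField.pow_card]
  have hrK : r ∣ Fintype.card K - 1 := by
    rw [hKq]
    exact (pow_eq_one_iff_dvd (by omega) d).1 (pow_orderOf_eq_one _)
  have hK1 : 1 < Fintype.card K := Fintype.one_lt_card
  have hle : D.diagonalSubgroup K ≤ D.group K :=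
    fun x hx => hF.c.monomial_le_group (hF.c.diagonal_le_monomial hx)
  have hidx : ¬ r ∣ ((D.diagonalSubgroup K).subgroupOf (D.group K)).index :=
    index_not_dvd (D.diagonalSubgroup K) (D.group K) hle E (by omega) hrK hK1 hrW (hg0 _) (hG K)
      (by rw [hlen]; exact hTt K)
  obtain ⟨Y, ρ, hρ, hdata⟩ := exists_twist_data hF f σ q hfσ hσ hidx (P : Subgroup ↥(D.group F)) P.isPGroup'
  have hcomm : ∀ x y : ↥(P : Subgroup ↥(D.group F)), x * y = y * x := by
    intro x y
    apply Subtype.ext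
    exact comm_of_data hF f (fun x hx => (hdata x hx).imp (fun c hc => hc.1)) x.2 y.2
  letI : CommGroup ↥(P : Subgroup ↥(D.group F)) :=
    { (inferInstance : Group ↥(P : Subgroup ↥(D.group F))) with mul_comm := hcomm }
  have hexp : ∀ x : ↥(P : Subgroup ↥(D.group F)), x ^ (r ^ v) = 1 := by
    intro x
    obtain ⟨c, hc, -⟩ := hdata x.1 x.2
    have h1 : x.1 ^ (Fintype.card K - 1) = 1 := pow_card_of_data hF f hc
    have h2 : x ^ (Fintype.card K - 1) = 1 := Subtype.ext h1
    obtain ⟨M, hM⟩ := P.isPGroup' x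
    have h3 : orderOf x ∣ r ^ M := orderOf_dvd_of_pow_eq_one hM
    obtain ⟨j, -, hj⟩ := (Nat.dvd_prime_pow hrp).1 h3
    have h4 : orderOf x ∣ Fintype.card K - 1 := orderOf_dvd_of_pow_eq_one h2
    rw [hj, hKq] at h4
    have hne : q ^ d - 1 ≠ 0 := by
      have h5 : q ≤ q ^ d := by
        calc q = q ^ 1 := (pow_one q).symm
          _ ≤ q ^ d := Nat.pow_le_pow_right (by omega) hd0
      omega
    have h5 : j ≤ v := (padicValNat_dvd_iff_le hne).1 h4
    have h6 : orderOf x ∣ r ^ v := by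
      rw [hj]
      exact pow_dvd_pow _ h5
    exact orderOf_dvd_iff_pow_eq_one.1 h6
  have hrank : Nat.card {x : ↥(P : Subgroup ↥(D.group F)) // x ^ r = 1} ≤ r ^ a := by
    refine (rank_of_data hF f q hrK hρ hdata).trans ?_
    apply Nat.pow_le_pow_right hrp.pos
    by_cases h0 : Module.finrank (ZMod r) (Eg r (mat hF ρ) (q : ZMod r)) = 0
    · rw [h0]
      exact Nat.zero_le _
    · have hA := mat_pow_card hF hρ
      rw [hW] at hA
      have hu := eig_pow_one hA (Nat.pos_of_ne_zero h0)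
      refine hbd r hrW ρ hρ _ hu ?_
      intro h1
      have : a = 0 := by
        rw [ha]
        rw [h1]
        rfl
      omega
  exact homocyclic_of r v a hv0 hexp hcardP hrank

end Cfsg.Agent.Lib.Syl54
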