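import Cfsg.Agent.Lib.Syl54.Bound
import Cfsg.Agent.Lib.Chev.OrdE7
import Cfsg.Agent.Lib.Chev.TorusCard

/-!
# The Sylow subgroups of the Chevalley group of type E7 for primes prime to the Weyl group
-/

set_option autoImplicit false
set_option linter.unusedSectionVars false
set_option linter.unusedVariables false
set_option linter.unusedSimpArgs false
set_option maxRecDepth 100000

namespace Cfsg.Agent.Lib.Syl54.TE7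

open Cfsg Cfsg.Lie Cfsg.Agent.Lib.Chev Matrix Cfsg.Agent.Lib.ChevFix Cfsg.Agent.Lib.TwTor32

theorem hFX : Full TabE7.T TabE7.X RootE7T.R chevE7 := ⟨RelE7.checks, RootE7.checks⟩

theorem card_Wk : Nat.card ↥(hFX.Wk Set.univ) = ([2, 6, 8, 10, 12, 14, 18] : List ℕ).prod := by
  classical
  have h := OrdE7.poin_univ hFX 1
  unfold Full.poin at h
  simp only [one_pow, Finset.sum_const, smul_eq_mul, mul_one] at h
  rw [Nat.card_eq_fintype_card, Fintype.card_subtype]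
  exact h

theorem hlr {r : ℕ} (hp : r.Prime) (h : ¬ r ∣ ([2, 6, 8, 10, 12, 14, 18] : List ℕ).prod) : chevE7.rank < r := by
  show 7 < r
  by_contra h1
  have h2 : r ≤ 7 := by omega
  have h3 : ∀ x ∈ Finset.range (7 + 1), x.Prime → x ∣ ([2, 6, 8, 10, 12, 14, 18] : List ℕ).prod := by
    decide +kernel
  exact h (h3 r (Finset.mem_range.2 (by omega)) hp)

def zD : Fin chevE7.rank → ℤ := (![0, 1, 0, 0, 1, 0, 1] : Fin 7 → ℤ)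

def Lt : List (Fin chevE7.rank → ℤ) := ([![-1, -1, 0, 1, 0, 0, 0], ![-1, -1, 1, 0, 0, 0, 0], ![-1, 0, 0, 0, 0, 0, 1], ![-1, 0, 0, 0, 0, 1, -1], ![-1, 0, 0, 0, 1, -1, 0], ![-1, 0, 0, 1, -1, 0, 0], ![-1, 0, 1, -1, 1, 0, 0], ![-1, 0, 1, 0, -1, 1, 0], ![-1, 0, 1, 0, 0, -1, 1], ![-1, 0, 1, 0, 0, 0, -1], ![-1, 1, 0, 0, 0, 0, 0], ![-1, 1, 1, -1, 0, 0, 0], ![0, -1, -1, 1, 0, 0, 0], ![0, -1, 0, 0, 0, 1, 0], ![0, -1, 0, 0, 1, -1, 1], ![0, -1, 0, 0, 1, 0, -1], ![0, -1, 0, 1, -1, 0, 1], ![0, -1, 0, 1, -1, 1, -1], ![0, -1, 0, 1, 0, -1, 0], ![0, -1, 1, 0, 0, 0, 0], ![0, 0, -1, 0, 1, 0, 0], ![0, 0, -1, 1, -1, 1, 0], ![0, 0, -1, 1, 0, -1, 1], ![0, 0, -1, 1, 0, 0, -1], ![0, 0, 0, -1, 1, 0, 0], ![0, 0, 0, 0, -1, 1, 0], ![0, 0, 0, 0, 0, -1, 1], ![0, 0, 0, 0, 0, 0, -1], ![0, 0, 0, 0, 0, 0, 1], ![0, 0, 0, 0, 0, 1, -1], ![0, 0, 0, 0, 1, -1, 0], ![0,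 0, 0, 1, -1, 0, 0], ![0, 0, 1, -1, 0, 0, 1], ![0, 0, 1, -1, 0, 1, -1], ![0, 0, 1, -1, 1, -1, 0], ![0, 0, 1, 0, -1, 0, 0], ![0, 1, -1, 0, 0, 0, 0], ![0, 1, 0, -1, 0, 1, 0], ![0, 1, 0, -1, 1, -1, 1], ![0, 1, 0, -1, 1, 0, -1], ![0, 1, 0, 0, -1, 0, 1], ![0, 1, 0, 0, -1, 1, -1], ![0, 1, 0, 0, 0, -1, 0], ![0, 1, 1, -1, 0, 0, 0], ![1, -1, -1, 1, 0, 0, 0], ![1, -1, 0, 0, 0, 0, 0], ![1, 0, -1, 0, 0, 0, 1], ![1, 0, -1, 0, 0, 1, -1], ![1, 0, -1, 0, 1, -1, 0], ![1, 0, -1, 1, -1, 0, 0], ![1, 0, 0, -1, 1, 0, 0], ![1, 0, 0, 0, -1, 1, 0], ![1, 0, 0, 0, 0, -1, 1], ![1, 0, 0, 0, 0, 0, -1], ![1, 1, -1, 0, 0, 0, 0], ![1, 1, 0, -1, 0, 0, 0]] : List (Fin 7 → ℤ))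

theorem hz : ∀ j : Fin chevE7.rank, (2 : ℤ) ∣ ∑ k : Fin chevE7.rank, chevE7.cartan j (chevE7.simple k) * zD k := by
  decide +kernel

theorem hM : ∀ i j : Fin chevE7.rank, (36 : ℤ) ∣ (∑ s : Fin chevE7.nroots, rcV RootE7T.R chevE7 s i * rcV RootE7T.R chevE7 s j) -
    18 * zD i * zD j := by
  decide +kernel

theorem chkA : ∀ f ∈ Lt, (∀ s : Fin chevE7.nroots, -1 ≤ f ⬝ᵥ rcV RootE7T.R chevE7 s ∧ f ⬝ᵥ rcV RootE7T.R chevE7 s ≤ 1) ∧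
    ¬ (2 : ℤ) ∣ f ⬝ᵥ zD := by
  decide +kernel

theorem chkB : ∀ s s' : Fin chevE7.nroots, (∀ j, rcV RootE7T.R chevE7 s j + rcV RootE7T.R chevE7 s' j = 0) ∨
    ∃ f ∈ Lt, f ⬝ᵥ rcV RootE7T.R chevE7 s + f ⬝ᵥ rcV RootE7T.R chevE7 s' = 0 := by
  decide +kernel

theorem hG : ∀ f, f ∈ Lt → Bdd RootE7T.R chevE7 f := by
  intro f hf s
  rw [abs_le]
  exact (chkA f hf).1 s

theorem hG2 : ∀ f, f ∈ Lt → ¬ (2 : ℤ) ∣ f ⬝ᵥ zD := fun f hf => (chkA f hf).2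

theorem hchk : ∀ s s' : Fin chevE7.nroots, rcV RootE7T.R chevE7 s + rcV RootE7T.R chevE7 s' ≠ 0 →
    ∃ f, f ∈ Lt ∧ f ⬝ᵥ rcV RootE7T.R chevE7 s + f ⬝ᵥ rcV RootE7T.R chevE7 s' = 0 := by
  intro s s' h
  rcases chkB s s' with h1 | h1
  · exact absurd (funext h1) h
  · exact h1

theorem excluded {r : ℕ} [Fact r.Prime] (hr : ¬ r ∣ ([2, 6, 8, 10, 12, 14, 18] : List ℕ).prod) {ρ : Equiv.Perm (Fin chevE7.nroots)}
    (hρ : ρ ∈ hFX.Wk Set.univ) {u : ZMod r} (hu : u ^ ([2, 6, 8, 10, 12, 14, 18] : List ℕ).prod = 1) (h0 : 0 < ([2, 6, 8, 10, 12, 14, 18] : List ℕ).prod)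
    (hA : mat hFX ρ ^ ([2, 6, 8, 10, 12, 14, 18] : List ℕ).prod = 1) (hlr : chevE7.rank < r)
    (h3 : orderOf u = 4 ∧ Module.finrank (ZMod r) (Eg r (mat hFX ρ) u) = 3) : False := by
  have hl : chevE7.rank = 7 := rfl
  obtain ⟨h3, hm⟩ := h3
  have hmem : ∃ f, f ∈ Lt := ⟨_, List.mem_cons_self ..⟩
  obtain ⟨f₀, hf₀⟩ := hmem
  exact excl_c (r := r) hFX hz hM hG hG2 hf₀ hchk (by omega) h0 hr hρ hA hlr hu (ord4' h3) (by omega)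

theorem chk : ∀ e ∈ ([2, 6, 8, 10, 12, 14, 18] : List ℕ), ∀ d ∈ Nat.divisors e, ∀ m ∈ Finset.range (7 + 1),
    Nat.totient d * m ≤ 7 → m ≤ (([2, 6, 8, 10, 12, 14, 18] : List ℕ).filter (fun e => d ∣ e)).length ∨ (d = 4 ∧ m = 3) := by
  decide +kernel

theorem hbd (r : ℕ) [Fact r.Prime] (hr : ¬ r ∣ ([2, 6, 8, 10, 12, 14, 18] : List ℕ).prod) (ρ : Equiv.Perm (Fin chevE7.nroots))
    (hρ : ρ ∈ hFX.Wk Set.univ) (u : ZMod r) (hu : u ^ ([2, 6, 8, 10, 12, 14, 18] : List ℕ).prod = 1)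
    (hne : ([2, 6, 8, 10, 12, 14, 18] : List ℕ).filter (fun e => orderOf u ∣ e) ≠ []) :
    Module.finrank (ZMod r) (Eg r (mat hFX ρ) u) ≤ (([2, 6, 8, 10, 12, 14, 18] : List ℕ).filter (fun e => orderOf u ∣ e)).length := by
  obtain ⟨h1, h2, ⟨e, he, hd⟩, h0, hA⟩ := bound_gen hFX [2, 6, 8, 10, 12, 14, 18] (by decide) card_Wk hr (hlr Fact.out hr) hρ hu hne
  have hE0 : ∀ e ∈ ([2, 6, 8, 10, 12, 14, 18] : List ℕ), 0 < e := by decide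
  have he0 : 0 < e := hE0 e he
  have h3 := chk e he _ (Nat.mem_divisors.2 ⟨hd, he0.ne'⟩) _ (Finset.mem_range.2 (by
    have : chevE7.rank = 7 := rfl
    omega)) h1
  rcases h3 with h3 | h3
  · exact h3
  · exfalso
    exact excluded hr hρ hu h0 hA (hlr Fact.out hr) h3

theorem hGen {K : Type*} [Field K] [Fintype K] :
    (fun n => Nat.gcd 2 (n - 1)) (Fintype.card K) * Nat.card ↥(chevE7.group K) =
      Fintype.card K ^ 63 * (([2, 6, 8, 10, 12, 14, 18] : List ℕ).map (fun e => Fintype.card K ^ e - 1)).prod := by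
  simp only [List.map_cons, List.map_nil, List.prod_cons, List.prod_nil, mul_one, one_mul]
  rw [OrdE7.card_group hFX]
  ring

theorem result {F : Type*} [Field F] [Fintype F] {q : ℕ} (hq : Fintype.card F = q) (r : ℕ) [Fact r.Prime]
    (hrq : ¬ r ∣ q) (hrW : ¬ r ∣ ([2, 6, 8, 10, 12, 14, 18] : List ℕ).prod) (hrG : r ∣ Nat.card ↥(chevE7.group F))
    (P : Sylow r ↥(chevE7.group F)) :
    Nonempty (↥(P : Subgroup ↥(chevE7.group F)) ≃*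
      (Fin (([2, 6, 8, 10, 12, 14, 18] : List ℕ).filter (fun e => orderOf (q : ZMod r) ∣ e)).length →
        Multiplicative (ZMod (r ^ padicValNat r ((Polynomial.cyclotomic (orderOf (q : ZMod r)) ℤ).eval (q : ℤ)).natAbs)))) :=
  generic hFX [2, 6, 8, 10, 12, 14, 18] 63 (fun n => Nat.gcd 2 (n - 1)) (by decide) rfl (fun _ => Nat.gcd_pos_of_pos_left _ (by norm_num))
    (fun r n hr hE h => hE ((h.trans (Nat.gcd_dvd_left _ _)).trans (by decide)))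
    (fun K _ _ => hGen) (fun K _ _ => Full.torus_card_E7 (F := K) hFX) card_Wk
    (fun r _ hr ρ hρ u hu hne => hbd r hr ρ hρ u hu hne) hGen hq r hrq hrW hrG P

end Cfsg.Agent.Lib.Syl54.TE7
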